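import Mathlib
import Cfsg.Prelude.Def_FusionSystem
import Cfsg.Prelude.Def_FusionComponents
import Cfsg.Agent.Lib.Helper3.PPrimeRes

/-!
# S5243 (design helper3 + lead): subsystems of index prime to `p` relative to a family `HH`
(GENERIC HALF, `Lib/PIX`).

Parameters: `F` saturated over `S`, a family `HH` of `F`-centric subgroups (closed under
`F`-conjugacy and overgroups, containing `S` and every `F`-essential subgroup) and a subgroup
`Hg ≤ Aut_F(S)` normal in `Aut_F(S)`.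

`AdmH F p HH Hg D`: `D ≤ F`, `O^{p'}(Aut_F(P)) ≤ Aut_D(P)` for `P ∈ HH`, `D` closed under extension of
`F`-maps from members of `HH`, and `Hg ≤ Aut_D(S)`.
`F0 F p HH Hg`: the intersection of all `AdmH` systems (inside `F`).

Outputs (other files of `Lib/PIX`): Frattini `F = Aut_F(S) ∘ F0`, index prime to `p`, `F0` saturated,
`Aut_F(S)`-invariant, normal in `F`, contains every `p'`-residual of `F`, and `F0 ≤ D` for every `AdmH D`.
-/

set_option autoImplicit false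

namespace Cfsg.Agent.Helper3.PIX

open Cfsg Cfsg.FusionSystem Cfsg.Agent.Helper25 Cfsg.Agent.Helper26

variable {Ω : Type*} [Group Ω] {S : Subgroup Ω}

/-- The Frattini factorisation `F = Aut_F(S) ∘ D` (shape of `S5114`). -/
def FratS (F D : FusionSystem S) : Prop :=
  ∀ (P : Subgroup Ω) (φ : P →* Ω), φ ∈ F.Hom P → ∃ α ∈ F.autGroup S,
    ∃ φ₀ ∈ D.Hom P, ∀ (x : P) (hx : φ₀ x ∈ S), φ x = ((α ⟨φ₀ x, hx⟩ : S) : Ω)

/-- The hypothesis bundle on the family `HH` and the subgroup `Hg`. -/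
structure FamHyp (F : FusionSystem S) (p : ℕ) (HH : Set (Subgroup Ω)) (Hg : Subgroup (MulAut S)) :
    Prop where
  centric : ∀ P ∈ HH, F.IsCentric P
  conj : ∀ P ∈ HH, ∀ Q : Subgroup Ω, F.IsConj P Q → Q ∈ HH
  overgroup : ∀ P ∈ HH, ∀ R : Subgroup Ω, P ≤ R → R ≤ S → R ∈ HH
  top : S ∈ HH
  ess : ∀ P : Subgroup Ω, F.IsEssential p P → P ∈ HH
  le_aut : Hg ≤ F.autGroup S
  normal : ∀ β ∈ F.autGroup S, ∀ γ ∈ Hg, β * γ * β⁻¹ ∈ Hg
  star : ∀ D : FusionSystem S, D.IsSubsystemOf F → FratS F D →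
    ∀ P : Subgroup Ω, F.IsCentric P → P ∉ HH → ∃ Q, D.IsConj P Q ∧
      ¬ (Cfsg.autInducedBy S Q ⊓ (Cfsg.pCore p ↥(D.autGroup Q)).map (D.autGroup Q).subtype ≤
        Cfsg.Inn Q)

/-- Admissible subsystems relative to `HH` and `Hg`. -/
structure AdmH (F : FusionSystem S) (p : ℕ) (HH : Set (Subgroup Ω)) (Hg : Subgroup (MulAut S))
    (D : FusionSystem S) : Prop where
  le : ∀ P : Subgroup Ω, D.Hom P ⊆ F.Hom P
  op : ∀ P ∈ HH, OpPrime F p P ≤ D.autGroup P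
  ext : ∀ (R : Subgroup Ω) (ψ : R →* Ω), ψ ∈ F.Hom R → ∀ (P : Subgroup Ω) (hPR : P ≤ R),
    P ∈ HH → ψ.comp (Subgroup.inclusion hPR) ∈ D.Hom P → ψ ∈ D.Hom R
  aut : Hg ≤ D.autGroup S

/-- The intersection of all `AdmH` subsystems (inside `F`). -/
def F0 (F : FusionSystem S) (p : ℕ) (HH : Set (Subgroup Ω)) (Hg : Subgroup (MulAut S)) :
    FusionSystem S where
  Hom P := {φ | φ ∈ F.Hom P ∧ ∀ D : FusionSystem S, AdmH F p HH Hg D → φ ∈ D.Hom P}
  le_of_mem h := F.le_of_mem h.1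
  injective_of_mem h := F.injective_of_mem h.1
  conj_mem hP hg := ⟨F.conj_mem hP hg, fun D _ => D.conj_mem hP hg⟩
  comp_mem hφ hψ h := ⟨F.comp_mem hφ.1 hψ.1 h, fun D hD => D.comp_mem (hφ.2 D hD) (hψ.2 D hD) h⟩
  inv_mem := by
    intro P φ hφ
    obtain ⟨ψ, hψ, hinv⟩ := F.inv_mem hφ.1
    refine ⟨ψ, ⟨hψ, fun D hD => ?_⟩, hinv⟩
    obtain ⟨ψ', hψ', hinv'⟩ := D.inv_mem (hφ.2 D hD)
    have : ψ = ψ' := by
      ext ⟨_, x, rfl⟩
      rw [hinv, hinv']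
    rw [this]; exact hψ'

theorem mem_F0 {F : FusionSystem S} {p : ℕ} {HH : Set (Subgroup Ω)} {Hg : Subgroup (MulAut S)}
    {P : Subgroup Ω} {φ : P →* Ω} :
    φ ∈ (F0 F p HH Hg).Hom P ↔
      φ ∈ F.Hom P ∧ ∀ D : FusionSystem S, AdmH F p HH Hg D → φ ∈ D.Hom P := Iff.rfl

theorem admH_self (F : FusionSystem S) (p : ℕ) (HH : Set (Subgroup Ω)) {Hg : Subgroup (MulAut S)}
    (hHg : Hg ≤ F.autGroup S) : AdmH F p HH Hg F where
  le _ _ h := h
  op P _ := OpPrime_le_autGroup F p P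
  ext _ _ hψ _ _ _ _ := hψ
  aut := hHg

theorem F0_le (F : FusionSystem S) (p : ℕ) (HH : Set (Subgroup Ω)) (Hg : Subgroup (MulAut S)) :
    (F0 F p HH Hg).IsSubsystemOf F := fun _ _ h => h.1

theorem F0_le_of_admH {F : FusionSystem S} {p : ℕ} {HH : Set (Subgroup Ω)}
    {Hg : Subgroup (MulAut S)} {D : FusionSystem S} (hD : AdmH F p HH Hg D) :
    (F0 F p HH Hg).IsSubsystemOf D := fun _ _ h => h.2 D hD

theorem admH_F0 (F : FusionSystem S) (p : ℕ) (HH : Set (Subgroup Ω)) {Hg : Subgroup (MulAut S)}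
    (hHS : ∀ P ∈ HH, P ≤ S) (hHg : Hg ≤ F.autGroup S) : AdmH F p HH Hg (F0 F p HH Hg) where
  le _ _ h := h.1
  op P hP γ hγ := by
    rw [mem_autGroup_iff _ (hHS P hP)]
    refine ⟨(mem_autGroup_iff _ (hHS P hP) γ).mp (OpPrime_le_autGroup F p P hγ), fun D hD => ?_⟩
    rw [← mem_autGroup_iff _ (hHS P hP)]
    exact hD.op P hP hγ
  ext R ψ hψ P hPR hPH h := ⟨hψ, fun D hD => hD.ext R ψ hψ P hPR hPH (h.2 D hD)⟩
  aut γ hγ := by
    rw [mem_autGroup_iff _ le_rfl]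
    refine ⟨(mem_autGroup_iff _ le_rfl γ).mp (hHg hγ), fun D hD => ?_⟩
    rw [← mem_autGroup_iff _ le_rfl]
    exact hD.aut hγ

end Cfsg.Agent.Helper3.PIX
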