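import Mathlib
import Cfsg.Agent.Lib.PIX.PIXDefs

/-!
# PIX-EXTS (S5243, generic half): the extension clause of `IsNormalIn` for a subsystem over `S` itself.

RECIPE. `S ⊔ centralizerIn S S = S` (`centralizerIn_le : centralizerIn S P ≤ S`). Transport
`α : MulAut S` (an element of `Aut_D(S) ≤ Aut_F(S)`) along this equality: e.g. first prove the
statement for an arbitrary subgroup `U` with `hU : U = S` by `subst`-free means, or build
`β := (MulEquiv.subgroupCongr h).trans (α.trans (MulEquiv.subgroupCongr h.symm))` with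
`h : S ⊔ centralizerIn S S = S`; `β ∈ F.autGroup _` via `mem_autGroup_iff` and `restrict_mem`/
`hom_congr`-type lemmas in `Lib/Helper25/Fusion.lean` (the underlying map of `β` is the underlying
map of `α` precomposed with `Subgroup.inclusion (h.le)`). For the last clause: `c ∈ Z(S)`, `β c = α c`
is again in `S` and centralizes `S` (apply `α` to `x * c = c * x` with `x := α⁻¹ y`).
Keep the statements, names, namespace and imports exactly.
-/

set_option autoImplicit false

namespace Cfsg.Agent.Helper3.PIX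

open Cfsg Cfsg.FusionSystem Cfsg.Agent.Helper25 Cfsg.Agent.Helper26

variable {Ω : Type*} [Group Ω] {S : Subgroup Ω}

theorem ext_clause_top (F D : FusionSystem S) (hDF : D.IsSubsystemOf F) :
    ∀ α ∈ D.autGroup S, ∃ β ∈ F.autGroup (S ⊔ centralizerIn S S),
      (∀ x : S, ((β (Subgroup.inclusion le_sup_left x) : ↥(S ⊔ centralizerIn S S)) : Ω) =
        ((α x : S) : Ω)) ∧
      ∀ c : ↥(S ⊔ centralizerIn S S), (c : Ω) ∈ centralizerIn S S →
        (c : Ω)⁻¹ * ((β c : ↥(S ⊔ centralizerIn S S)) : Ω) ∈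
          S ⊓ Subgroup.centralizer (S : Set Ω) := by
  intro α hα
  have hCS : centralizerIn S S ≤ S := inf_le_left
  have h : S ⊔ centralizerIn S S = S := sup_eq_left.2 hCS
  have hαD : S.subtype.comp α.toMonoidHom ∈ D.Hom S := (mem_autGroup_iff D le_rfl α).mp hα
  have hαF : S.subtype.comp α.toMonoidHom ∈ F.Hom S := hDF S hαD
  let β : MulAut ↥(S ⊔ centralizerIn S S) :=
    (MulEquiv.subgroupCongr h).trans (α.trans (MulEquiv.subgroupCongr h.symm))
  have hβv : ∀ u : ↥(S ⊔ centralizerIn S S),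
      ((β u : ↥(S ⊔ centralizerIn S S)) : Ω) = ((α ⟨(u : Ω), h.le u.2⟩ : S) : Ω) := fun u => rfl
  refine ⟨β, ?_, ?_, ?_⟩
  · rw [mem_autGroup_iff F h.le β]
    have heq : (S ⊔ centralizerIn S S).subtype.comp β.toMonoidHom =
        (S.subtype.comp α.toMonoidHom).comp (Subgroup.inclusion h.le) := by
      ext u
      exact hβv u
    rw [heq]
    exact restrict_mem F h.le hαF
  · intro x
    rw [hβv]
    rfl
  · intro c hc
    have hcS : (c : Ω) ∈ S := hc.1
    have hcC : (c : Ω) ∈ Subgroup.centralizer (S : Set Ω) := hc.2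
    have hZ : ∀ z : Ω, z ∈ S ⊓ Subgroup.centralizer (S : Set Ω) → z⁻¹ ∈ S ⊓ Subgroup.centralizer (S : Set Ω) :=
      fun z hz => Subgroup.inv_mem _ hz
    apply Subgroup.mul_mem _ (hZ _ ⟨hcS, hcC⟩)
    rw [hβv]
    refine ⟨(α ⟨(c : Ω), h.le c.2⟩).2, ?_⟩
    show ((α ⟨(c : Ω), h.le c.2⟩ : S) : Ω) ∈ Subgroup.centralizer (S : Set Ω)
    rw [Subgroup.mem_centralizer_iff]
    intro y hy
    have hy' : y ∈ S := hy
    -- `y = α x`
    have hx : α (α.symm ⟨y, hy'⟩) = ⟨y, hy'⟩ := MulEquiv.apply_symm_apply α _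
    have hcomm : (α.symm ⟨y, hy'⟩ : S) * ⟨(c : Ω), h.le c.2⟩ =
        ⟨(c : Ω), h.le c.2⟩ * (α.symm ⟨y, hy'⟩ : S) := by
      apply Subtype.ext
      show ((α.symm ⟨y, hy'⟩ : S) : Ω) * (c : Ω) = (c : Ω) * ((α.symm ⟨y, hy'⟩ : S) : Ω)
      exact (Subgroup.mem_centralizer_iff.mp hcC _ (α.symm ⟨y, hy'⟩).2)
    have h2 := congrArg (fun s : S => ((α s : S) : Ω)) hcomm
    simp only [map_mul, hx, Subgroup.coe_mul] at h2
    exact h2

end Cfsg.Agent.Helper3.PIX
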