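import Mathlib
import Cfsg.Agent.Lib.PIX.PIXDefs

/-!
# S5243: the subgroup `Hchi ≤ Aut_F(S)` (shared by the generic and the specific half).

`Hchi F hTS χ` is the set of `α ∈ Aut_F(S)` whose restriction to `T` is an element `β` of `Aut_F(T)`
with `χ β = 1`, written EXACTLY as in the frozen statement S5243 (so that the `↔` clause of S5243 is
`Iff.rfl` once `Aut_{F₀}(S) = Hchi`).

PIECE PIX-HCHI: the three subgroup axioms (`sorry`s in the structure), `hchi_normal`.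
RECIPE: `T` need not be `α`-invariant a priori, but the witness `β` records that it is. `one`: `β = 1`.
`mul`: witnesses `β₁ * β₂` (`map_mul`, `mul_one`; `(β₁ * β₂) t = β₁ (β₂ t)`, then rewrite with the two
hypotheses: `α₂ ⟨t, _⟩ = ⟨β₂ t, _⟩` as elements of `S` by `Subtype.ext`). `inv`: witness `β⁻¹`
(apply the hypothesis at `β⁻¹ t`). `hchi_normal`: for `γ ∈ Aut_F(S)` and `α ∈ Hchi` with witness `β`:
`γ` restricts to an element `g` of `Aut_F(T)` PROVIDED `T` is `γ`-invariant - so the lemma takes the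
hypothesis `hT : F.StronglyClosed T` (then `γ t ∈ T`; build `g : MulAut T` from `γ`, `γ⁻¹`; it lies in
`F.autGroup T` by `mem_autGroup_iff` + `restrict_mem`); witness `g * β * g⁻¹`, and
`χ (g β g⁻¹) = χ g * 1 * (χ g)⁻¹ = 1`.
-/

set_option autoImplicit false

namespace Cfsg.Agent.Helper3.PIX

open Cfsg Cfsg.FusionSystem Cfsg.Agent.Helper25 Cfsg.Agent.Helper26

variable {Ω : Type*} [Group Ω] {S : Subgroup Ω}

/-- the restriction to `T` of an automorphism `γ` of `S` with `γ T ≤ T` and `γ⁻¹ T ≤ T` -/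
def pixhchi_restr {T : Subgroup Ω} (hTS : T ≤ S) (γ : MulAut S)
    (h1 : ∀ t : ↥T, ((γ ⟨(t : Ω), hTS t.2⟩ : ↥S) : Ω) ∈ T)
    (h2 : ∀ t : ↥T, ((γ⁻¹ ⟨(t : Ω), hTS t.2⟩ : ↥S) : Ω) ∈ T) : MulAut ↥T where
  toFun t := ⟨((γ ⟨(t : Ω), hTS t.2⟩ : ↥S) : Ω), h1 t⟩
  invFun t := ⟨((γ⁻¹ ⟨(t : Ω), hTS t.2⟩ : ↥S) : Ω), h2 t⟩
  left_inv t := by
    apply Subtype.ext
    show ((γ⁻¹ ⟨((γ ⟨(t : Ω), hTS t.2⟩ : ↥S) : Ω), _⟩ : ↥S) : Ω) = (t : Ω)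
    have e : (⟨((γ ⟨(t : Ω), hTS t.2⟩ : ↥S) : Ω), hTS (h1 t)⟩ : ↥S) = γ ⟨(t : Ω), hTS t.2⟩ :=
      Subtype.ext rfl
    rw [e, MulAut.inv_apply_self]
  right_inv t := by
    apply Subtype.ext
    show ((γ ⟨((γ⁻¹ ⟨(t : Ω), hTS t.2⟩ : ↥S) : Ω), _⟩ : ↥S) : Ω) = (t : Ω)
    have e : (⟨((γ⁻¹ ⟨(t : Ω), hTS t.2⟩ : ↥S) : Ω), hTS (h2 t)⟩ : ↥S) = γ⁻¹ ⟨(t : Ω), hTS t.2⟩ :=
      Subtype.ext rfl
    rw [e, MulAut.apply_inv_self]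
  map_mul' a b := by
    apply Subtype.ext
    show ((γ ⟨((a * b : ↥T) : Ω), _⟩ : ↥S) : Ω) =
      ((γ ⟨(a : Ω), hTS a.2⟩ : ↥S) : Ω) * ((γ ⟨(b : Ω), hTS b.2⟩ : ↥S) : Ω)
    have e : (⟨((a * b : ↥T) : Ω), hTS (a * b).2⟩ : ↥S) =
        (⟨(a : Ω), hTS a.2⟩ : ↥S) * ⟨(b : Ω), hTS b.2⟩ := Subtype.ext rfl
    rw [e, map_mul]
    rfl

/-- `{α ∈ Aut_F(S) | χ(α|T) = 1}` in the shape of the frozen statement. -/
def Hchi (F : FusionSystem S) {T : Subgroup Ω} (hTS : T ≤ S) {Δ : Type*} [Group Δ]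
    (χ : ↥(F.autGroup T) →* Δ) : Subgroup (MulAut S) where
  carrier := {α | α ∈ F.autGroup S ∧ ∃ β : ↥(F.autGroup T), χ β = 1 ∧
    ∀ t : ↥T, (((β : MulAut ↥T) t : ↥T) : Ω) = ((α ⟨(t : Ω), hTS t.2⟩ : ↥S) : Ω)}
  one_mem' := by
    refine ⟨one_mem _, 1, map_one χ, fun t => rfl⟩
  mul_mem' := by
    rintro α₁ α₂ ⟨h1, β₁, hχ1, hβ1⟩ ⟨h2, β₂, hχ2, hβ2⟩
    refine ⟨mul_mem h1 h2, β₁ * β₂, by rw [map_mul, hχ1, hχ2, mul_one], fun t => ?_⟩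
    show (((β₁ : MulAut ↥T) ((β₂ : MulAut ↥T) t) : ↥T) : Ω) = ((α₁ (α₂ ⟨(t : Ω), hTS t.2⟩) : ↥S) : Ω)
    have e : α₂ ⟨(t : Ω), hTS t.2⟩ =
        (⟨(((β₂ : MulAut ↥T) t : ↥T) : Ω), hTS ((β₂ : MulAut ↥T) t).2⟩ : ↥S) :=
      Subtype.ext (hβ2 t).symm
    rw [e]
    exact hβ1 _
  inv_mem' := by
    rintro α ⟨h1, β, hχ, hβ⟩
    refine ⟨inv_mem h1, β⁻¹, by rw [map_inv, hχ, inv_one], fun t => ?_⟩
    show ((((β : MulAut ↥T)⁻¹) t : ↥T) : Ω) = ((α⁻¹ ⟨(t : Ω), hTS t.2⟩ : ↥S) : Ω)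
    have e1 := hβ (((β : MulAut ↥T)⁻¹) t)
    rw [MulAut.apply_inv_self] at e1
    have e2 : (⟨(t : Ω), hTS t.2⟩ : ↥S) =
        α ⟨((((β : MulAut ↥T)⁻¹) t : ↥T) : Ω), hTS (((β : MulAut ↥T)⁻¹) t).2⟩ := Subtype.ext e1
    rw [e2, MulAut.inv_apply_self]

theorem mem_hchi {F : FusionSystem S} {T : Subgroup Ω} {hTS : T ≤ S} {Δ : Type*} [Group Δ]
    {χ : ↥(F.autGroup T) →* Δ} {α : MulAut S} :
    α ∈ Hchi F hTS χ ↔ α ∈ F.autGroup S ∧ ∃ β : ↥(F.autGroup T), χ β = 1 ∧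
      ∀ t : ↥T, (((β : MulAut ↥T) t : ↥T) : Ω) = ((α ⟨(t : Ω), hTS t.2⟩ : ↥S) : Ω) := Iff.rfl

theorem hchi_le_aut (F : FusionSystem S) {T : Subgroup Ω} (hTS : T ≤ S) {Δ : Type*} [Group Δ]
    (χ : ↥(F.autGroup T) →* Δ) : Hchi F hTS χ ≤ F.autGroup S := fun _ h => h.1

theorem hchi_normal (F : FusionSystem S) {T : Subgroup Ω} (hTS : T ≤ S)
    (hT : F.StronglyClosed T) {Δ : Type*} [Group Δ] (χ : ↥(F.autGroup T) →* Δ) :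
    ∀ γ ∈ F.autGroup S, ∀ α ∈ Hchi F hTS χ, γ * α * γ⁻¹ ∈ Hchi F hTS χ := by
  rintro γ hγ α ⟨hα, β, hχ, hβ⟩
  have hmap : ∀ δ ∈ F.autGroup S, ∀ t : ↥T, ((δ ⟨(t : Ω), hTS t.2⟩ : ↥S) : Ω) ∈ T := by
    intro δ hδ t
    have h1 : S.subtype.comp δ.toMonoidHom ∈ F.Hom S := (mem_autGroup_iff F le_rfl δ).mp hδ
    have h2 := restrict_mem F hTS h1
    exact hT.2 T le_rfl _ h2 t
  have hg1 := hmap γ hγ
  have hg2 := hmap γ⁻¹ (inv_mem hγ)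
  have hgmem : pixhchi_restr hTS γ hg1 hg2 ∈ F.autGroup T := by
    rw [mem_autGroup_iff F hTS]
    have h1 : S.subtype.comp γ.toMonoidHom ∈ F.Hom S := (mem_autGroup_iff F le_rfl γ).mp hγ
    have h2 := restrict_mem F hTS h1
    have e : T.subtype.comp (pixhchi_restr hTS γ hg1 hg2).toMonoidHom =
        (S.subtype.comp γ.toMonoidHom).comp (Subgroup.inclusion hTS) := by
      ext x
      rfl
    rw [e]
    exact h2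
  refine ⟨mul_mem (mul_mem hγ hα) (inv_mem hγ),
    (⟨pixhchi_restr hTS γ hg1 hg2, hgmem⟩ : ↥(F.autGroup T)) * β *
      (⟨pixhchi_restr hTS γ hg1 hg2, hgmem⟩ : ↥(F.autGroup T))⁻¹, ?_, fun t => ?_⟩
  · rw [map_mul, map_mul, hχ, mul_one, map_inv, mul_inv_cancel]
  · show (((pixhchi_restr hTS γ hg1 hg2) ((β : MulAut ↥T)
        ((pixhchi_restr hTS γ hg1 hg2)⁻¹ t)) : ↥T) : Ω) =
      ((γ (α (γ⁻¹ ⟨(t : Ω), hTS t.2⟩)) : ↥S) : Ω)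
    have e1 : α (γ⁻¹ ⟨(t : Ω), hTS t.2⟩) =
        (⟨(((β : MulAut ↥T) ((pixhchi_restr hTS γ hg1 hg2)⁻¹ t) : ↥T) : Ω),
          hTS ((β : MulAut ↥T) ((pixhchi_restr hTS γ hg1 hg2)⁻¹ t)).2⟩ : ↥S) := by
      apply Subtype.ext
      rw [hβ]
      rfl
    rw [e1]
    rfl

end Cfsg.Agent.Helper3.PIX
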