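import Mathlib
import Cfsg.Agent.Lib.PIX.PIXChi
import Cfsg.Agent.Lib.Helper25.FusionInvariant

/-!
# S5243: shared definitions for the SPECIFIC half: the family `famHH`, the predicate `Good`,
and the statement `ExtChi`.

* `famHH F E = {P | P is F-centric and P ⊓ T is E-centric}`.
* `Good F E χ P φ`: the restriction of `φ` to `P ⊓ T` is `a ∘ φ₀` with `a ∈ Aut_F(T)`, `χ a = 1`,
  `φ₀ ∈ E.Hom (P ⊓ T)` (same shape as `Helper25.FrattiniPr`, plus `χ a = 1`).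
* `ExtChi p F E χ`: for `b ∈ Aut_F(T)` and an `E`-centric `Q ≤ T` with `b|Q ∈ E.Hom Q`: `χ b = 1`
  (the corrected form of the false "EXTUP_E"; proof: powers + `Helper25.OPE.star`, see msg 8586).
-/

set_option autoImplicit false

namespace Cfsg.Agent.Helper3.PIX

open Cfsg Cfsg.FusionSystem Cfsg.Agent.Helper25 Cfsg.Agent.Helper26

variable {Ω : Type*} [Group Ω] {S : Subgroup Ω}

/-- The family of `F`-centric subgroups whose intersection with `T` is `E`-centric. -/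
def famHH (F : FusionSystem S) {T : Subgroup Ω} (E : FusionSystem T) : Set (Subgroup Ω) :=
  {P | F.IsCentric P ∧ E.IsCentric (P ⊓ T)}

theorem mem_famHH {F : FusionSystem S} {T : Subgroup Ω} {E : FusionSystem T} {P : Subgroup Ω} :
    P ∈ famHH F E ↔ F.IsCentric P ∧ E.IsCentric (P ⊓ T) := Iff.rfl

/-- `φ|_{P ⊓ T} = a ∘ φ₀` with `a ∈ Aut_F(T)`, `χ a = 1`, `φ₀ ∈ E`. -/
def Good (F : FusionSystem S) {T : Subgroup Ω} (E : FusionSystem T) {Δ : Type*} [Group Δ]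
    (χ : ↥(F.autGroup T) →* Δ) (P : Subgroup Ω) (φ : P →* Ω) : Prop :=
  ∃ a : ↥(F.autGroup T), χ a = 1 ∧ ∃ φ₀ : ↥(P ⊓ T) →* Ω, ∃ h : φ₀ ∈ E.Hom (P ⊓ T),
    ∀ x : ↥(P ⊓ T), φ ⟨x, x.2.1⟩ = (((a : MulAut ↥T) ⟨φ₀ x, (E.le_of_mem h).2 x⟩ : ↥T) : Ω)

/-- `b ∈ Aut_F(T)` restricting to a map of `E` on an `E`-centric `Q` is killed by `χ`. -/
def ExtChi (F : FusionSystem S) {T : Subgroup Ω} (E : FusionSystem T) {Δ : Type*} [Group Δ]
    (χ : ↥(F.autGroup T) →* Δ) : Prop :=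
  ∀ (b : ↥(F.autGroup T)) (Q : Subgroup Ω) (hQ : E.IsCentric Q),
    (T.subtype.comp (b : MulAut ↥T).toMonoidHom).comp (Subgroup.inclusion hQ.1) ∈ E.Hom Q → χ b = 1

end Cfsg.Agent.Helper3.PIX
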