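import Mathlib
import Cfsg.Agent.Lib.PIX.PIXFam
import Cfsg.Agent.Lib.Helper25.FusionCentric

/-!
# PIX-FHC (S5243, FamHyp.overgroup / top): `famHH F E` is closed under overgroups and contains `S`.

RECIPE. `famHH_overgroup`: `Helper25.isCentric_of_le F hP.1 hPR hRS : F.IsCentric R`; and
`Helper25.isCentric_of_le E hP.2 (inf_le_inf_right T hPR) inf_le_right : E.IsCentric (R ⊓ T)`
(`Lib/Helper25/FusionCentric.lean`, generic in the ambient subgroup).
`famHH_top`: `F.IsCentric S`: a conjugate `Q = φ.range` of `S` is `≤ S` with the same (finite)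
cardinality (`Helper25.homEquiv F hφ`), so `Q = S` (`Subgroup.eq_of_le_of_card_ge`) and
`centralizerIn S S ≤ S`; `S ⊓ T = T` (`inf_eq_right.mpr hTS`), and `E.IsCentric T` by the same argument
inside `T` (copy from `PIXEMain.lean`, the case `P = T`).
Keep the statements, names, namespace exactly (you may add imports).
-/

set_option autoImplicit false

namespace Cfsg.Agent.Helper3.PIX

open Cfsg Cfsg.FusionSystem Cfsg.Agent.Helper25 Cfsg.Agent.Helper26

variable {Ω : Type*} [Group Ω] {S : Subgroup Ω}

/-- The ambient subgroup of a fusion system over a finite group is centric. -/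
theorem pixfhc_isCentric_self {U : Subgroup Ω} [Finite U] (F₀ : FusionSystem U) :
    F₀.IsCentric U := by
  refine ⟨le_rfl, ?_⟩
  rintro Q ⟨φ, hφ, rfl⟩
  have hle : φ.range ≤ U := range_le F₀ hφ
  have hcard : Nat.card U ≤ Nat.card φ.range :=
    (Nat.card_congr (homEquiv F₀ hφ).toEquiv).le
  have heq : φ.range = U := Subgroup.eq_of_le_of_card_ge hle hcard
  rw [heq]
  exact inf_le_left

theorem famHH_overgroup (F : FusionSystem S) {T : Subgroup Ω} (E : FusionSystem T) :
    ∀ P ∈ famHH F E, ∀ R : Subgroup Ω, P ≤ R → R ≤ S → R ∈ famHH F E := by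
  intro P hP R hPR hRS
  exact ⟨isCentric_of_le F hP.1 hPR hRS,
    isCentric_of_le E hP.2 (inf_le_inf_right T hPR) inf_le_right⟩

theorem famHH_top [Finite S] (F : FusionSystem S) {T : Subgroup Ω} (hTS : T ≤ S)
    (E : FusionSystem T) : S ∈ famHH F E := by
  have : Finite T := Finite.of_injective (Subgroup.inclusion hTS) (Subgroup.inclusion_injective hTS)
  refine ⟨pixfhc_isCentric_self F, ?_⟩
  rw [inf_eq_right.mpr hTS]
  exact pixfhc_isCentric_self E

end Cfsg.Agent.Helper3.PIX
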