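import Mathlib
import Cfsg.Agent.Lib.PIX.PIXFam
import Cfsg.Agent.Lib.Helper25.FusionSat3

/-!
# PIX-FHA (S5243, FamHyp): if a fully `F`-normalized `Q₁ ≤ T` has `C_T(Q₁) ≤ Q₁`, so has every
`F`-conjugate of `Q₁`.

RECIPE. `Helper25.of_fullyNormalized p hS F hF hfn` gives `F.IsReceptive Q₁`. From `hconj` get
`φ ∈ F.Hom Q'` with `φ.range = Q₁`; `hrec.2 Q' φ hφ hr` gives `ψ ∈ F.Hom (extender S Q' φ)` extending
`φ`; `Helper25.centralizerIn_le_extender φ : centralizerIn S Q' ≤ extender S Q' φ` and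
`le_extender F hφ : Q' ≤ extender ..`. For `c ∈ centralizerIn T Q'`: `c ∈ centralizerIn S Q'`
(`hT.1 : T ≤ S`), `ψ c ∈ T` (`hT.2` applied to the restriction of `ψ` to `T ⊓ extender`, or to
`Subgroup.zpowers c`-free: restrict `ψ` to the subgroup `(extender ..) ⊓ T ≤ T`), `ψ c` commutes with
every `ψ x = φ x` (`x ∈ Q'`), i.e. with every element of `Q₁`; so `ψ c ∈ centralizerIn T Q₁ ≤ Q₁`, so
`ψ c = φ x = ψ x` for some `x ∈ Q'`, and `ψ` is injective (`F.injective_of_mem hψ`): `c = x ∈ Q'`.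
Keep the statement, name, namespace exactly (you may add imports).
-/

set_option autoImplicit false

namespace Cfsg.Agent.Helper3.PIX

open Cfsg Cfsg.FusionSystem Cfsg.Agent.Helper25 Cfsg.Agent.Helper26

variable {Ω : Type*} [Group Ω] {S : Subgroup Ω}

theorem centralizerIn_le_of_conj_fn [Finite S] (p : ℕ) [Fact p.Prime] (hS : IsPGroup p S)
    (F : FusionSystem S) (hF : F.IsSaturated p) {T : Subgroup Ω} (hT : F.StronglyClosed T)
    {Q₁ Q' : Subgroup Ω} (hfn : F.IsFullyNormalized Q₁) (hc : centralizerIn T Q₁ ≤ Q₁)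
    (hconj : F.IsConj Q' Q₁) : centralizerIn T Q' ≤ Q' := by
  obtain ⟨-, -, hrec⟩ := of_fullyNormalized p hS F hF hfn
  obtain ⟨φ, hφ, hr⟩ := hconj
  obtain ⟨ψ, hψ, hψv⟩ := hrec.2 Q' φ hφ hr
  have hQ'N : Q' ≤ extender S Q' φ := le_extender F hφ
  have hCN : centralizerIn S Q' ≤ extender S Q' φ := centralizerIn_le_extender φ
  intro c hcm
  obtain ⟨hcT, hcC⟩ := Subgroup.mem_inf.mp hcm
  have hcS : c ∈ centralizerIn S Q' := Subgroup.mem_inf.mpr ⟨hT.1 hcT, hcC⟩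
  have hcN : c ∈ extender S Q' φ := hCN hcS
  have hψcT : ψ ⟨c, hcN⟩ ∈ T :=
    hT.2 _ inf_le_right _ (restrict_mem F inf_le_left hψ) ⟨c, Subgroup.mem_inf.mpr ⟨hcN, hcT⟩⟩
  have hψx : ∀ x : Q', ψ ⟨(x : Ω), hQ'N x.2⟩ = φ x := fun x => hψv x x.2 (hQ'N x.2)
  have hψcC : ψ ⟨c, hcN⟩ ∈ Subgroup.centralizer (Q₁ : Set Ω) := by
    rw [Subgroup.mem_centralizer_iff]
    intro y hy
    rw [← hr] at hy
    obtain ⟨x, rfl⟩ := hy
    rw [← hψx x, ← map_mul, ← map_mul]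
    congr 1
    apply Subtype.ext
    exact Subgroup.mem_centralizer_iff.mp hcC x x.2
  have h1 : ψ ⟨c, hcN⟩ ∈ Q₁ := hc (Subgroup.mem_inf.mpr ⟨hψcT, hψcC⟩)
  rw [← hr] at h1
  obtain ⟨x, hx⟩ := h1
  have h2 : (⟨(x : Ω), hQ'N x.2⟩ : extender S Q' φ) = ⟨c, hcN⟩ :=
    F.injective_of_mem hψ ((hψx x).trans hx)
  have h3 : (x : Ω) = c := congrArg Subtype.val h2
  rw [← h3]
  exact x.2

end Cfsg.Agent.Helper3.PIX
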