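import Mathlib
import Cfsg.Agent.Lib.PIX.PIXFam
import Cfsg.Agent.Lib.CSE.CSECentric

/-!
# PIX-FHB (S5243, FamHyp.conj): `famHH F E` is closed under `F`-conjugacy.

RECIPE. `hT : F.StronglyClosed T := hE.1.2.2.2.1`, `E ≤ F`: `hE.1.2.2.1`.
`inf_conj`: from `φ ∈ F.Hom P`, `φ.range = Q`: the restriction `φ' := φ.comp (inclusion inf_le_left)`
to `P ⊓ T` is in `F.Hom (P ⊓ T)` with range `Q ⊓ T`: `⊆`: `φ x ∈ T` for `x ∈ P ⊓ T` by `hT.2`;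
`⊇`: for `y = φ x ∈ T`, apply `hT.2` to the inverse map (`F.inv_mem hφ`) to get `x ∈ T`.
`isCentric_inf_of_conj`: `Q ⊓ T ≤ T`; for an `E`-conjugate `R''` of `Q ⊓ T` (it is an `F`-conjugate of
`Q ⊓ T`, hence of `P ⊓ T`: `isConj_trans`), `CSE.centralizerIn_le_of_isConj p F E hE inf_le_right hPc _`
(`Lib/CSE/CSECentric.lean`) gives `centralizerIn T R'' ≤ R''`.
`famHH_conj`: `Helper25.isCentric_of_isConj F hP.1 h` and the previous lemma.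
Keep the statements, names, namespace exactly (you may add imports).
-/

set_option autoImplicit false

namespace Cfsg.Agent.Helper3.PIX

open Cfsg Cfsg.FusionSystem Cfsg.Agent.Helper25 Cfsg.Agent.Helper26

variable {Ω : Type*} [Group Ω] {S : Subgroup Ω}

theorem inf_conj (F : FusionSystem S) {T : Subgroup Ω} (hT : F.StronglyClosed T)
    {P Q : Subgroup Ω} (h : F.IsConj P Q) : F.IsConj (P ⊓ T) (Q ⊓ T) := by
  obtain ⟨φ, hφ, hQ⟩ := h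
  obtain ⟨ψ, hψ, hinv, -⟩ := exists_inv F hφ hQ
  have hφ' : φ.comp (Subgroup.inclusion (inf_le_left : P ⊓ T ≤ P)) ∈ F.Hom (P ⊓ T) :=
    restrict_mem F inf_le_left hφ
  have hψ' : ψ.comp (Subgroup.inclusion (inf_le_left : Q ⊓ T ≤ Q)) ∈ F.Hom (Q ⊓ T) :=
    restrict_mem F inf_le_left hψ
  refine ⟨_, hφ', ?_⟩
  ext y
  constructor
  · rintro ⟨x, rfl⟩
    refine ⟨?_, hT.2 (P ⊓ T) inf_le_right _ hφ' x⟩
    rw [← hQ]
    exact ⟨_, rfl⟩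
  · rintro ⟨hyQ, hyT⟩
    have hyQ' := hyQ
    rw [← hQ] at hyQ'
    obtain ⟨x, rfl⟩ := hyQ'
    have h1 := hT.2 (Q ⊓ T) inf_le_right _ hψ' ⟨φ x, ⟨hyQ, hyT⟩⟩
    have h2 : (ψ.comp (Subgroup.inclusion (inf_le_left : Q ⊓ T ≤ Q))) ⟨φ x, ⟨hyQ, hyT⟩⟩ =
        (x : Ω) := hinv x hyQ
    rw [h2] at h1
    exact ⟨⟨(x : Ω), ⟨x.2, h1⟩⟩, rfl⟩

theorem isCentric_inf_of_conj (p : ℕ) (F : FusionSystem S) {T : Subgroup Ω} (E : FusionSystem T)
    (hE : E.IsNormalIn F p) {P Q : Subgroup Ω} (hPc : E.IsCentric (P ⊓ T)) (h : F.IsConj P Q) :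
    E.IsCentric (Q ⊓ T) := by
  have hT : F.StronglyClosed T := hE.1.2.2.2.1
  have hEF : E.IsSubsystemOf F := hE.1.2.2.1
  have hc : F.IsConj (P ⊓ T) (Q ⊓ T) := inf_conj F hT h
  refine ⟨inf_le_right, fun R'' hR'' => ?_⟩
  have hR''F : F.IsConj (Q ⊓ T) R'' := by
    obtain ⟨χ, hχ, hr⟩ := hR''
    exact ⟨χ, hEF _ hχ, hr⟩
  exact Cfsg.Agent.Helper3.CSE.centralizerIn_le_of_isConj p F E hE inf_le_right hPc
    (isConj_trans F hc hR''F)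

theorem famHH_conj (p : ℕ) (F : FusionSystem S) {T : Subgroup Ω} (E : FusionSystem T)
    (hE : E.IsNormalIn F p) :
    ∀ P ∈ famHH F E, ∀ Q : Subgroup Ω, F.IsConj P Q → Q ∈ famHH F E := by
  intro P hP Q h
  exact ⟨Cfsg.Agent.Helper25.isCentric_of_isConj F hP.1 h, isCentric_inf_of_conj p F E hE hP.2 h⟩

end Cfsg.Agent.Helper3.PIX
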