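import Mathlib
import Cfsg.Agent.Lib.PIX.PIXFhB
import Cfsg.Agent.Lib.CSE.CSEFnMap

/-!
# PIX-FHD (S5243, FamHyp): move `P` by an `F`-isomorphism `κ` so that `κ(P) ⊓ T` is fully
`F`-normalized.

RECIPE. `Q := P ⊓ T ≤ S`. `CSE.exists_fn_map p hS F hF hQS` (`Lib/CSE/CSEFnMap.lean`) gives `Q₁` fully
normalized and `ψ ∈ F.Hom (normalizerIn S Q)` with `(Q.subgroupOf (normalizerIn S Q)).map ψ = Q₁`.
`P ≤ normalizerIn S Q`: `x ∈ P` normalizes `P` and `T` (`Helper25.mem_normalizer_of_stronglyClosed hT`,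
`Lib/Helper25/FusionInvariant.lean`), hence `P ⊓ T`. Put `κ := ψ.comp (Subgroup.inclusion hPN)`
(`restrict_mem F hPN hψ`). Then `κ.range ⊓ T = Q₁`: `⊇` clear (`ψ x ∈ T` for `x ∈ Q` by `hT.2`);
`⊆`: `y = ψ x ∈ T`, `x ∈ P`: apply `hT.2` to the inverse map of `κ` (`F.inv_mem`) to get `x ∈ T`.
Rewrite with this equality; the conjugacy `F.IsConj (P ⊓ T) Q₁` is witnessed by the restriction of `ψ`
to `Q` (or use `inf_conj F hT ⟨κ, hκ, rfl⟩` from `PIXFhB.lean`, by statement).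
Keep the statement, name, namespace exactly (you may add imports).
-/

set_option autoImplicit false

namespace Cfsg.Agent.Helper3.PIX

open Cfsg Cfsg.FusionSystem Cfsg.Agent.Helper25 Cfsg.Agent.Helper26

variable {Ω : Type*} [Group Ω] {S : Subgroup Ω}

theorem exists_fn_conj_inf [Finite S] (p : ℕ) [Fact p.Prime] (hS : IsPGroup p S)
    (F : FusionSystem S) (hF : F.IsSaturated p) {T : Subgroup Ω} (hT : F.StronglyClosed T)
    {P : Subgroup Ω} (hPS : P ≤ S) :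
    ∃ κ ∈ F.Hom P, F.IsFullyNormalized (κ.range ⊓ T) ∧ F.IsConj (P ⊓ T) (κ.range ⊓ T) := by
  have hQS : P ⊓ T ≤ S := inf_le_left.trans hPS
  obtain ⟨Q₁, ψ, hfn, hψ, hmap⟩ := Cfsg.Agent.Helper3.CSE.exists_fn_map p hS F hF hQS
  have hPN : P ≤ normalizerIn S (P ⊓ T) := by
    intro x hx
    refine ⟨hPS hx, ?_⟩
    have h1 : x ∈ Subgroup.normalizer (P : Set Ω) := Subgroup.le_normalizer hx
    have h2 : x ∈ Subgroup.normalizer (T : Set Ω) := mem_normalizer_of_stronglyClosed hT (hPS hx)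
    rw [Subgroup.mem_normalizer_iff] at h1 h2
    show x ∈ Subgroup.normalizer ((P ⊓ T : Subgroup Ω) : Set Ω)
    rw [Subgroup.mem_normalizer_iff]
    intro h
    rw [Subgroup.mem_inf, Subgroup.mem_inf, h1 h, h2 h]
  have hQN : P ⊓ T ≤ normalizerIn S (P ⊓ T) := inf_le_left.trans hPN
  have hκ : ψ.comp (Subgroup.inclusion hPN) ∈ F.Hom P := restrict_mem F hPN hψ
  have hψQ : ψ.comp (Subgroup.inclusion hQN) ∈ F.Hom (P ⊓ T) := restrict_mem F hQN hψ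
  obtain ⟨κ', hκ', hκ'v⟩ := F.inv_mem hκ
  have hκ'r := restrict_mem F (inf_le_left : (ψ.comp (Subgroup.inclusion hPN)).range ⊓ T ≤
    (ψ.comp (Subgroup.inclusion hPN)).range) hκ'
  have heq : (ψ.comp (Subgroup.inclusion hPN)).range ⊓ T = Q₁ := by
    apply le_antisymm
    · rintro y ⟨⟨x, rfl⟩, hyT⟩
      have hxT : (x : Ω) ∈ T := by
        have h1 := hT.2 _ inf_le_right _ hκ'r
          ⟨(ψ.comp (Subgroup.inclusion hPN)) x, ⟨⟨x, rfl⟩, hyT⟩⟩
        have h2 : κ' ⟨(ψ.comp (Subgroup.inclusion hPN)) x, ⟨x, rfl⟩⟩ = (x : Ω) := hκ'v x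
        have h3 : (κ'.comp (Subgroup.inclusion (inf_le_left :
            (ψ.comp (Subgroup.inclusion hPN)).range ⊓ T ≤ (ψ.comp (Subgroup.inclusion hPN)).range)))
            ⟨(ψ.comp (Subgroup.inclusion hPN)) x, ⟨⟨x, rfl⟩, hyT⟩⟩ = (x : Ω) := h2
        rw [h3] at h1
        exact h1
      rw [← hmap]
      exact ⟨Subgroup.inclusion hPN x, Subgroup.mem_subgroupOf.mpr ⟨x.2, hxT⟩, rfl⟩
    · intro y hy
      rw [← hmap] at hy
      obtain ⟨z, hz, rfl⟩ := hy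
      have hz' : (z : Ω) ∈ P ⊓ T := Subgroup.mem_subgroupOf.mp hz
      refine ⟨⟨⟨z, hz'.1⟩, ?_⟩, ?_⟩
      · show ψ (Subgroup.inclusion hPN ⟨z, hz'.1⟩) = ψ z
        congr 1
      · have h1 := hT.2 _ inf_le_right _ hψQ ⟨z, hz'⟩
        have h2 : (ψ.comp (Subgroup.inclusion hQN)) ⟨z, hz'⟩ = ψ z := by
          show ψ (Subgroup.inclusion hQN ⟨z, hz'⟩) = ψ z
          congr 1
        rw [h2] at h1
        exact h1
  refine ⟨ψ.comp (Subgroup.inclusion hPN), hκ, ?_, inf_conj F hT ⟨_, hκ, rfl⟩⟩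
  rw [heq]; exact hfn

end Cfsg.Agent.Helper3.PIX
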