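import Mathlib

/-!
# PIX-NGROW (S5243, FamHyp; pure group theory): normalizer growth.

`P`, `C` subgroups of a finite `p`-group situation: `P ⊔ C` is a finite `p`-group, `P` normalizes `C`,
and every element of `C` normalizing `P` lies in `P`. Then `C ≤ P`.

RECIPE. Let `U := P ⊔ C`. Since `P` normalizes `C`, every element of `U` is `x * c` with `x ∈ P`,
`c ∈ C` (`Subgroup.closure_induction` on `P ⊔ C = closure (P ∪ C)`, or `Subgroup.mem_sup'`-type
lemmas after showing `C.subgroupOf U` normal: `Subgroup.sup_eq_closure_mul`, `Subgroup.mul_normal`).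
If `P < U` (as subgroups of `U`), normalizers grow in the finite `p`-group `U`
(`IsPGroup.normalizer`-type lemma: e.g. `Subgroup.NormalizerCondition`,
`IsNilpotent.normalizerCondition` / `normalizerCondition_of_isNilpotent` with
`IsPGroup.isNilpotent`): some `g ∈ U` normalizes `P` with `g ∉ P`; write `g = x * c`; then
`c = x⁻¹ * g` normalizes `P`, `c ∈ C`, so `c ∈ P` by `h`, so `g ∈ P`: contradiction. Hence `U = P`.
Keep the statement, name, namespace exactly (you may add imports).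
-/

set_option autoImplicit false

namespace Cfsg.Agent.Helper3.PIX

variable {Ω : Type*} [Group Ω]

theorem le_of_normalizer_growth (p : ℕ) [Fact p.Prime] (P C : Subgroup Ω)
    [Finite ↥(P ⊔ C)] (hp : IsPGroup p ↥(P ⊔ C))
    (hPC : ∀ x ∈ P, ∀ c ∈ C, x * c * x⁻¹ ∈ C)
    (h : ∀ c ∈ C, c ∈ Subgroup.normalizer (P : Set Ω) → c ∈ P) : C ≤ P := by
  -- every element of `P ⊔ C` is a product
  have hprod : ∀ g ∈ P ⊔ C, ∃ x ∈ P, ∃ c ∈ C, x * c = g := by
    intro g hg
    rw [Subgroup.sup_eq_closure] at hg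
    induction hg using Subgroup.closure_induction with
    | mem a ha =>
      rcases ha with ha | ha
      · exact ⟨a, ha, 1, C.one_mem, by simp⟩
      · exact ⟨1, P.one_mem, a, ha, by simp⟩
    | one => exact ⟨1, P.one_mem, 1, C.one_mem, by simp⟩
    | mul a b _ _ iha ihb =>
      obtain ⟨y₁, hy₁, z₁, hz₁, rfl⟩ := iha
      obtain ⟨y₂, hy₂, z₂, hz₂, rfl⟩ := ihb
      refine ⟨y₁ * y₂, P.mul_mem hy₁ hy₂, (y₂⁻¹ * z₁ * y₂) * z₂, C.mul_mem ?_ hz₂, by group⟩
      have := hPC y₂⁻¹ (P.inv_mem hy₂) z₁ hz₁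
      rwa [inv_inv] at this
    | inv a _ iha =>
      obtain ⟨y, hy, z, hz, rfl⟩ := iha
      exact ⟨y⁻¹, P.inv_mem hy, y * z⁻¹ * y⁻¹, hPC y hy z⁻¹ (C.inv_mem hz), by group⟩
  by_contra hCP
  haveI : Group.IsNilpotent ↥(P ⊔ C) := hp.isNilpotent
  have hNC : NormalizerCondition ↥(P ⊔ C) := normalizerCondition_of_isNilpotent
  have hlt : P.subgroupOf (P ⊔ C) < ⊤ := by
    rw [lt_top_iff_ne_top]
    intro htop
    apply hCP
    intro c hc
    have hcU : c ∈ P ⊔ C := Subgroup.mem_sup_right hc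
    have : (⟨c, hcU⟩ : ↥(P ⊔ C)) ∈ P.subgroupOf (P ⊔ C) := by
      rw [htop]
      exact Subgroup.mem_top _
    exact Subgroup.mem_subgroupOf.mp this
  obtain ⟨g, hgN, hgP⟩ := SetLike.exists_of_lt (hNC _ hlt)
  obtain ⟨x, hx, c, hc, hxc⟩ := hprod (g : Ω) g.2
  have hg' := Subgroup.mem_normalizer_iff.mp hgN
  have hxU : x ∈ P ⊔ C := Subgroup.mem_sup_left hx
  have hcU : c ∈ P ⊔ C := Subgroup.mem_sup_right hc
  have hcN : c ∈ Subgroup.normalizer (P : Set Ω) := by
    rw [Subgroup.mem_set_normalizer_iff]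
    intro n
    constructor
    · intro hn
      have hnU : n ∈ P ⊔ C := Subgroup.mem_sup_left hn
      have h1 := (hg' ⟨n, hnU⟩).mp (Subgroup.mem_subgroupOf.mpr hn)
      have h2 : (g : Ω) * n * (g : Ω)⁻¹ ∈ P := by
        simpa [Subgroup.mem_subgroupOf] using h1
      rw [← hxc] at h2
      have h3 : x⁻¹ * (x * c * n * (x * c)⁻¹) * x ∈ P := P.mul_mem (P.mul_mem (P.inv_mem hx) h2) hx
      have e : x⁻¹ * (x * c * n * (x * c)⁻¹) * x = c * n * c⁻¹ := by group
      rw [e] at h3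
      exact h3
    · intro hn
      have hnU : n ∈ P ⊔ C := by
        have e : n = c⁻¹ * (c * n * c⁻¹) * c := by group
        rw [e]
        exact mul_mem (mul_mem (inv_mem hcU) (Subgroup.mem_sup_left hn)) hcU
      have h2 : (g : Ω) * n * (g : Ω)⁻¹ ∈ P := by
        rw [← hxc]
        have e : x * c * n * (x * c)⁻¹ = x * (c * n * c⁻¹) * x⁻¹ := by group
        rw [e]
        exact P.mul_mem (P.mul_mem hx hn) (P.inv_mem hx)
      have h1 := (hg' ⟨n, hnU⟩).mpr (by
        rw [Subgroup.mem_subgroupOf]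
        simpa using h2)
      exact Subgroup.mem_subgroupOf.mp h1
  have hcP : c ∈ P := h c hc hcN
  apply hgP
  rw [Subgroup.mem_subgroupOf, ← hxc]
  exact P.mul_mem hx hcP

end Cfsg.Agent.Helper3.PIX
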