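import Mathlib
import Cfsg.Agent.Lib.PIX.PIXFam
import Cfsg.Agent.Lib.Helper3.OliverB1
import Cfsg.Agent.Lib.Helper25.FusionTransport

/-!
# PIX-STABE (S5243, FamHyp.ess core): for `P` essential and an `F`-isomorphism `κ : P → P₁ := κ.range`,
an element `d ∈ T` normalizing `P₁` and centralizing `P₁ ⊓ T` lies in `P₁`.

RECIPE (tools: `Lib/Helper3/OliverB1.lean`, ns `Cfsg.Agent.Helper3.OL`: `le_inn_of_normal`, `kapN`,
`mem_of_kapN_mem_inn`; `TT.stab`; `OL.isPGroup_stab'`, `OL.stab_conj`).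
Let `e := Helper25.homEquiv F hκ : P ≃* κ.range`, `P₁ := κ.range ≤ S` (`Helper25.range_le F hκ`),
`a : normalizerIn S P₁ := ⟨d, hT.1 hdT, hdN⟩`, `c := OL.kapN P₁ a : MulAut P₁`, and
`η := MulAut.congr e.symm c : MulAut P` (`η x = e.symm (c (e x))`, i.e. `κ (η x) = d * κ x * d⁻¹`).
1. `η ∈ F.autGroup P` (`Helper25.congr_mem_autGroup`-type lemma, cf. `FusionPrimeIndex3.lean` l.53, applied
   to the inverse iso; or directly: `η = κ⁻¹ ∘ c_d ∘ κ` is a composite of maps of `F`).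
2. `W : Subgroup P := (P ⊓ T).subgroupOf P`. `η ∈ TT.stab W`: for `w ∈ P ⊓ T`, `κ w ∈ P₁ ⊓ T`
   (`hT.2`), so `d (κ w) d⁻¹ = κ w` by `hdC`, so `η w = w`; and `κ (η x * x⁻¹) = d (κ x) d⁻¹ (κ x)⁻¹ ∈ T`
   (`T` normal in `S`, `d ∈ T`), so `η x * x⁻¹ ∈ T` by `hT.2` for the inverse map of `κ`
   (`F.inv_mem hκ`).
3. `C := TT.stab W ⊓ F.autGroup P` is a normal `p`-subgroup of `Aut_F(P)` exactly as in the proof of
   `OL.mem_of_stab` (`OliverB1.lean` l.95-120: copy), so `OL.le_inn_of_normal hP C .. : C ≤ Inn P`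
   and `η = MulAut.conj y` for some `y : P`.
4. Then `c = MulAut.conj (e y)` on `P₁`, i.e. `c ∈ Inn P₁`; `P₁` is `F`-centric
   (`hP.1.2 P₁ ⟨κ, hκ, rfl⟩ : centralizerIn S P₁ ≤ P₁`), so `OL.mem_of_kapN_mem_inn` gives `d ∈ P₁`.
Keep the statement, name, namespace exactly (you may add imports).
-/

set_option autoImplicit false

namespace Cfsg.Agent.Helper3.PIX

open Cfsg Cfsg.FusionSystem Cfsg.Agent.Helper25 Cfsg.Agent.Helper26 Cfsg.Agent.Helper3

variable {Ω : Type*} [Group Ω] {S : Subgroup Ω}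

theorem mem_of_stab_conj [Finite S] (p : ℕ) [Fact p.Prime] (hS : IsPGroup p S)
    (F : FusionSystem S) {T : Subgroup Ω} (hT : F.StronglyClosed T)
    {P : Subgroup Ω} (hP : F.IsEssential p P) {κ : P →* Ω} (hκ : κ ∈ F.Hom P)
    {d : Ω} (hdT : d ∈ T) (hdN : d ∈ Subgroup.normalizer (κ.range : Set Ω))
    (hdC : ∀ x ∈ κ.range ⊓ T, x * d = d * x) : d ∈ κ.range := by
  have hPS : P ≤ S := hP.1.1
  have hP1S : κ.range ≤ S := Helper25.range_le F hκ
  have hfinP : Finite P := Helper25.finite_of_le_finite hPS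
  have hPp : IsPGroup p P := hS.to_le hPS
  have hκinj : Function.Injective κ := F.injective_of_mem hκ
  have hκS : ∀ x : P, κ x ∈ S := (F.le_of_mem hκ).2
  -- the isomorphism
  obtain ⟨e, he⟩ : ∃ e : P ≃* κ.range, ∀ x : P, ((e x : κ.range) : Ω) = κ x :=
    ⟨Helper25.homEquiv F hκ, fun x => rfl⟩
  have heF : κ.range.subtype.comp e.toMonoidHom ∈ F.Hom P := by
    have e1 : κ.range.subtype.comp e.toMonoidHom = κ := by
      ext x
      exact he x
    rw [e1]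
    exact hκ
  have hθF : P.subtype.comp e.symm.toMonoidHom ∈ F.Hom κ.range := Helper25.symm_mem F e heF
  -- pull back membership in `T` along `κ`
  have hpull : ∀ y : P, κ y ∈ T → (y : Ω) ∈ T := by
    intro y hy
    have h1 := hT.2 (κ.range ⊓ T) inf_le_right
      ((P.subtype.comp e.symm.toMonoidHom).comp (Subgroup.inclusion inf_le_left))
      (Helper25.restrict_mem F inf_le_left hθF) ⟨κ y, ⟨⟨y, rfl⟩, hy⟩⟩
    have h2 : ((P.subtype.comp e.symm.toMonoidHom).comp (Subgroup.inclusion inf_le_left))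
        (⟨κ y, ⟨⟨y, rfl⟩, hy⟩⟩ : ↥(κ.range ⊓ T)) = (y : Ω) := by
      show ((e.symm (⟨κ y, ⟨y, rfl⟩⟩ : κ.range) : P) : Ω) = (y : Ω)
      have h3 : (⟨κ y, ⟨y, rfl⟩⟩ : κ.range) = e y := Subtype.ext (he y).symm
      rw [h3, MulEquiv.symm_apply_apply]
    rw [h2] at h1
    exact h1
  -- push forward membership in `T` along maps of `F` out of `P`
  have hpush : ∀ (φ : P →* Ω), φ ∈ F.Hom P → ∀ w : P, (w : Ω) ∈ T → φ w ∈ T := by
    intro φ hφ w hw
    have h1 := hT.2 (P ⊓ T) inf_le_right (φ.comp (Subgroup.inclusion inf_le_left))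
      (Helper25.restrict_mem F inf_le_left hφ) ⟨(w : Ω), ⟨w.2, hw⟩⟩
    exact h1
  -- the conjugation
  obtain ⟨a, ha⟩ : ∃ a : normalizerIn S κ.range, (a : Ω) = d := ⟨⟨d, ⟨hT.1 hdT, hdN⟩⟩, rfl⟩
  have hcS : OL.kapN κ.range a ∈ autInducedBy S κ.range := OL.kapN_mem a
  have hcF : OL.kapN κ.range a ∈ F.autGroup κ.range :=
    Helper25.autInducedBy_le_autGroup F hP1S hcS
  have hηF : MulAut.congr e.symm (OL.kapN κ.range a) ∈ F.autGroup P :=
    Helper25.congr_mem_autGroup' F e.symm hθF hcF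
  obtain ⟨η, hηdef⟩ : ∃ η : MulAut P, η = MulAut.congr e.symm (OL.kapN κ.range a) := ⟨_, rfl⟩
  rw [← hηdef] at hηF
  have hηe : ∀ x : P, e (η x) = OL.kapN κ.range a (e x) := by
    intro x
    rw [hηdef]
    show e (e.symm (OL.kapN κ.range a (e.symm.symm x))) = _
    rw [MulEquiv.apply_symm_apply]
    rfl
  have hηv : ∀ x : P, κ (η x) = d * κ x * d⁻¹ := by
    intro x
    have h1 := congrArg Subtype.val (hηe x)
    rw [he] at h1
    rw [h1]
    show (a : Ω) * ((e x : κ.range) : Ω) * (a : Ω)⁻¹ = _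
    rw [ha, he]
  -- the chain
  obtain ⟨W, hWdef⟩ : ∃ W : Subgroup P, W = (P ⊓ T).subgroupOf P := ⟨_, rfl⟩
  have hWmem : ∀ w : P, w ∈ W ↔ (w : Ω) ∈ T := by
    intro w
    rw [hWdef, Subgroup.mem_subgroupOf, Subgroup.mem_inf]
    exact ⟨fun h => h.2, fun h => ⟨w.2, h⟩⟩
  have hηstab : η ∈ TT.stab W := by
    rw [TT.mem_stab]
    refine ⟨fun w hw => ?_, fun x => ?_⟩
    · have hwT : (w : Ω) ∈ T := (hWmem w).mp hw
      have hκwT : κ w ∈ T := hpush κ hκ w hwT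
      have h1 := hdC (κ w) ⟨⟨w, rfl⟩, hκwT⟩
      apply hκinj
      rw [hηv, ← h1]
      group
    · rw [hWmem]
      apply hpull
      rw [map_mul, map_inv, hηv]
      have h1 : κ x * d⁻¹ * (κ x)⁻¹ ∈ T :=
        Helper25.conj_mem_of_stronglyClosed F hT (hκS x) (T.inv_mem hdT)
      have e1 : d * κ x * d⁻¹ * (κ x)⁻¹ = d * (κ x * d⁻¹ * (κ x)⁻¹) := by group
      rw [e1]
      exact T.mul_mem hdT h1
  have hW : ∀ α ∈ F.autGroup P, ∀ w ∈ W, α w ∈ W := by
    intro α hα w hw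
    rw [hWmem] at hw ⊢
    exact hpush _ ((Helper25.mem_autGroup_iff F hPS α).mp hα) w hw
  -- the normal `p`-subgroup
  have hCle : TT.stab W ⊓ F.autGroup P ≤ Inn P := by
    refine OL.le_inn_of_normal hP (TT.stab W ⊓ F.autGroup P) inf_le_right ?_
      ((OL.isPGroup_stab' hPp W).to_le inf_le_left)
    constructor
    rintro ⟨h, hhA⟩ hh ⟨α, hα⟩
    have hh' : h ∈ TT.stab W ⊓ F.autGroup P := Subgroup.mem_subgroupOf.mp hh
    apply Subgroup.mem_subgroupOf.mpr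
    show α * h * α⁻¹ ∈ TT.stab W ⊓ F.autGroup P
    refine ⟨?_, (F.autGroup P).mul_mem ((F.autGroup P).mul_mem hα hhA) ((F.autGroup P).inv_mem hα)⟩
    have hmap : W.map α.toMonoidHom = W := by
      apply Subgroup.eq_of_le_of_card_ge
      · rintro _ ⟨w, hw, rfl⟩
        exact hW α hα w hw
      · rw [Subgroup.card_map_of_injective α.injective]
    have := OL.stab_conj α h hh'.1
    rwa [hmap] at this
  obtain ⟨y, hy⟩ := hCle ⟨hηstab, hηF⟩
  -- back to `κ.range`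
  have hcen1 : centralizerIn S κ.range ≤ κ.range := hP.1.2 κ.range ⟨κ, hκ, rfl⟩
  have hcinn : OL.kapN κ.range a ∈ Inn κ.range := by
    refine ⟨e y, ?_⟩
    ext z
    have h1 : (MulAut.conj y) (e.symm z) = η (e.symm z) := by rw [hy]
    have h3 : e ((MulAut.conj y) (e.symm z)) = OL.kapN κ.range a z := by
      rw [h1, hηe, MulEquiv.apply_symm_apply]
    rw [MulAut.conj_apply, map_mul, map_mul, map_inv, MulEquiv.apply_symm_apply] at h3
    rw [MulAut.conj_apply]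
    exact congrArg Subtype.val h3
  have hfin := OL.mem_of_kapN_mem_inn hP1S hcen1 a hcinn
  rw [ha] at hfin
  exact hfin

end Cfsg.Agent.Helper3.PIX
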