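import Mathlib
import Cfsg.Agent.Lib.PIX.PIXFhA
import Cfsg.Agent.Lib.PIX.PIXFhD
import Cfsg.Agent.Lib.PIX.PIXNGrow
import Cfsg.Agent.Lib.PIX.PIXStabE

/-!
# PIX-FHE (S5243, FamHyp.ess): every `F`-essential subgroup lies in `famHH F E`.

RECIPE (`hT : F.StronglyClosed T := hE.1.2.2.2.1`; all cited lemmas BY STATEMENT).
1. `hP.1 : F.IsCentric P`. `exists_fn_conj_inf p hS F hF hT hP.1.1` (`PIXFhD.lean`): `κ ∈ F.Hom P`,
   `P₁ := κ.range`, `Q₁ := P₁ ⊓ T` fully normalized, `F.IsConj (P ⊓ T) Q₁`.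
2. `C := centralizerIn T Q₁`. `le_of_normalizer_growth p P₁ C` (`PIXNGrow.lean`): `P₁ ⊔ C ≤ S` is a finite
   `p`-group (`hS.to_le`, `finite_of_le_finite`); `P₁` normalizes `C` (`x ∈ P₁ ≤ S` normalizes `T` and
   `P₁`, hence `Q₁`, hence `C_T(Q₁)`); and for `c ∈ C` normalizing `P₁`:
   `mem_of_stab_conj p hS F hT hP hκ c.T c.N (c centralizes P₁ ⊓ T = Q₁) : c ∈ P₁` (`PIXStabE.lean`).
   Hence `C ≤ P₁`, and `C ≤ T`, so `C ≤ Q₁`.
3. `E.IsCentric (P ⊓ T)`: `P ⊓ T ≤ T`; for an `E`-conjugate `R''` of `P ⊓ T` (an `F`-conjugate since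
   `E ≤ F`: `hE.1.2.2.1`), `F.IsConj R'' Q₁` (`isConj_symm`, `isConj_trans`), so
   `centralizerIn_le_of_conj_fn p hS F hF hT hfn hC _ : centralizerIn T R'' ≤ R''` (`PIXFhA.lean`).
Keep the statement, name, namespace exactly (you may add imports).
-/

set_option autoImplicit false

namespace Cfsg.Agent.Helper3.PIX

open Cfsg Cfsg.FusionSystem Cfsg.Agent.Helper25 Cfsg.Agent.Helper26

variable {Ω : Type*} [Group Ω] {S : Subgroup Ω}

theorem famHH_ess [Finite S] (p : ℕ) [Fact p.Prime] (hS : IsPGroup p S)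
    (F : FusionSystem S) (hF : F.IsSaturated p) {T : Subgroup Ω} (E : FusionSystem T)
    (hE : E.IsNormalIn F p) :
    ∀ P : Subgroup Ω, F.IsEssential p P → P ∈ famHH F E := by
  intro P hP
  have hT : F.StronglyClosed T := hE.1.2.2.2.1
  have hTS : T ≤ S := hT.1
  have hEF : E.IsSubsystemOf F := hE.1.2.2.1
  have hPc : F.IsCentric P := hP.1
  have hPS : P ≤ S := hPc.1
  obtain ⟨κ, hκ, hfn, hconj⟩ := exists_fn_conj_inf p hS F hF hT hPS
  have hP1S : κ.range ≤ S := Helper25.range_le F hκ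
  have hCT : centralizerIn T (κ.range ⊓ T) ≤ T := inf_le_left
  have hsupS : κ.range ⊔ centralizerIn T (κ.range ⊓ T) ≤ S := sup_le hP1S (hCT.trans hTS)
  have hCP1 : centralizerIn T (κ.range ⊓ T) ≤ κ.range := by
    have : Finite ↥(κ.range ⊔ centralizerIn T (κ.range ⊓ T)) :=
      Helper25.finite_of_le_finite hsupS
    refine le_of_normalizer_growth p κ.range (centralizerIn T (κ.range ⊓ T))
      (hS.to_le hsupS) ?_ ?_
    · intro x hx c hc
      rw [Helper25.mem_centralizerIn] at hc ⊢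
      have hxS : x ∈ S := hP1S hx
      refine ⟨Helper25.conj_mem_of_stronglyClosed F hT hxS hc.1, fun q hq => ?_⟩
      have hq' : x⁻¹ * q * x ∈ κ.range ⊓ T := by
        refine ⟨?_, Helper25.conj_mem_of_stronglyClosed' F hT hxS hq.2⟩
        exact Subgroup.mul_mem _ (Subgroup.mul_mem _ (Subgroup.inv_mem _ hx) hq.1) hx
      have h1 := hc.2 _ hq'
      calc q * (x * c * x⁻¹) = x * ((x⁻¹ * q * x) * c) * x⁻¹ := by group
        _ = x * (c * (x⁻¹ * q * x)) * x⁻¹ := by rw [h1]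
        _ = x * c * x⁻¹ * q := by group
    · intro c hc hcN
      rw [Helper25.mem_centralizerIn] at hc
      exact mem_of_stab_conj p hS F hT hP hκ hc.1 hcN (fun x hx => hc.2 x hx)
  have hc : centralizerIn T (κ.range ⊓ T) ≤ κ.range ⊓ T := le_inf hCP1 hCT
  rw [mem_famHH]
  refine ⟨hPc, inf_le_right, fun R hR => ?_⟩
  have hR' : F.IsConj (P ⊓ T) R := by
    obtain ⟨φ, hφ, hr⟩ := hR
    exact ⟨φ, hEF _ hφ, hr⟩
  have h1 : F.IsConj R (κ.range ⊓ T) :=
    Helper25.isConj_trans F (Helper25.isConj_symm F hR') hconj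
  exact centralizerIn_le_of_conj_fn p hS F hF hT hfn hc h1

end Cfsg.Agent.Helper3.PIX
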