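import Mathlib
import Cfsg.Agent.Lib.PIX.PIXFam
import Cfsg.Agent.Lib.Helper3.OliverB1
import Cfsg.Agent.Lib.Helper24.RUDefs

/-!
# PIX-STABD (S5243, FamHyp.star core): an element `d ∈ T ∖ Q` normalizing `Q` and centralizing
`Q ⊓ T` gives an element of `Aut_S(Q) ⊓ O_p(Aut_D(Q))` that is not inner (`Q` with `C_S(Q) ≤ Q`).

RECIPE (tools in `Lib/Helper3/OliverB1.lean`, ns `Cfsg.Agent.Helper3.OL`; `TT.stab` in
`Lib/Helper3/TwoTransv.lean`; `OL.isPGroup_stab'`/`stab_conj` in `OliverL1.lean`).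
Let `a : normalizerIn S Q := ⟨d, hT.1 hdT, hdN⟩`, `c := OL.kapN Q a : MulAut Q` (`c e = d e d⁻¹`),
`W : Subgroup Q := (Q ⊓ T).subgroupOf Q`.
1. `c ∈ autInducedBy S Q` (`OL.kapN_mem`), hence `c ∈ D.autGroup Q` (`autInducedBy_le_autGroup D hQS`).
2. `c ∈ TT.stab W`: `c w = w` for `w ∈ W` by `hdC`; `c e * e⁻¹ = d e d⁻¹ e⁻¹ ∈ Q` and `∈ T`
   (`d ∈ T`, `e d⁻¹ e⁻¹ ∈ T` because `T` is normal in `S`: `Helper25.conj_mem_of_stronglyClosed F hT`).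
3. `C := TT.stab W ⊓ D.autGroup Q` is a `p`-group (`OL.isPGroup_stab' (hS.to_le hQS) W`) and
   `C.subgroupOf (D.autGroup Q)` is normal: `W` is invariant under every `α ∈ D.autGroup Q`
   (`α` is a map of `F` by `hDF`, and `T` is strongly closed: `hT.2`), then `OL.stab_conj`
   (copy the normality part of the proof of `OL.mem_of_stab`, `OliverB1.lean` l.95-120).
   So `C.subgroupOf (D.autGroup Q) ≤ pCore p ↥(D.autGroup Q)` (`Helper24.RU.le_pCore`), and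
   `c ∈ (pCore p _).map (D.autGroup Q).subtype`.
4. If the intersection were `≤ Inn Q`, then `c ∈ Inn Q`, and `OL.mem_of_kapN_mem_inn hQS hQc a` gives
   `d ∈ Q`, contradicting `hdQ`.
Keep the statement, name, namespace exactly (you may add imports).
-/

set_option autoImplicit false

namespace Cfsg.Agent.Helper3.PIX

open Cfsg Cfsg.FusionSystem Cfsg.Agent.Helper25 Cfsg.Agent.Helper26

variable {Ω : Type*} [Group Ω] {S : Subgroup Ω}

theorem not_le_inn_of_stab [Finite S] (p : ℕ) [Fact p.Prime] (hS : IsPGroup p S)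
    (F D : FusionSystem S) (hDF : D.IsSubsystemOf F) {T : Subgroup Ω} (hT : F.StronglyClosed T)
    {Q : Subgroup Ω} (hQS : Q ≤ S) (hQc : centralizerIn S Q ≤ Q)
    {d : Ω} (hdT : d ∈ T) (hdN : d ∈ Subgroup.normalizer (Q : Set Ω))
    (hdC : ∀ x ∈ Q ⊓ T, x * d = d * x) (hdQ : d ∉ Q) :
    ¬ (Cfsg.autInducedBy S Q ⊓ (Cfsg.pCore p ↥(D.autGroup Q)).map (D.autGroup Q).subtype ≤
      Cfsg.Inn Q) := by
  intro hle
  haveI : Finite Q := finite_of_le_finite hQS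
  have hQp : IsPGroup p Q := hS.to_le hQS
  have hdS : d ∈ S := hT.1 hdT
  have hc1 : Cfsg.Agent.Helper3.OL.kapN Q (⟨d, hdS, hdN⟩ : normalizerIn S Q) ∈ autInducedBy S Q :=
    Cfsg.Agent.Helper3.OL.kapN_mem _
  have hcD : Cfsg.Agent.Helper3.OL.kapN Q (⟨d, hdS, hdN⟩ : normalizerIn S Q) ∈ D.autGroup Q :=
    autInducedBy_le_autGroup D hQS hc1
  have hcst : Cfsg.Agent.Helper3.OL.kapN Q (⟨d, hdS, hdN⟩ : normalizerIn S Q) ∈
      Cfsg.Agent.Helper3.TT.stab ((Q ⊓ T).subgroupOf Q) := by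
    constructor
    · intro w hw
      apply Subtype.ext
      rw [Cfsg.Agent.Helper3.OL.kapN_apply]
      show d * (w : Ω) * d⁻¹ = w
      have hw' : (w : Ω) ∈ Q ⊓ T := Subgroup.mem_subgroupOf.mp hw
      rw [← hdC _ hw', mul_inv_cancel_right]
    · intro e
      rw [Subgroup.mem_subgroupOf]
      refine ⟨(Cfsg.Agent.Helper3.OL.kapN Q (⟨d, hdS, hdN⟩ : normalizerIn S Q) e * e⁻¹).2, ?_⟩
      show d * (e : Ω) * d⁻¹ * (e : Ω)⁻¹ ∈ T
      have e1 : d * (e : Ω) * d⁻¹ * (e : Ω)⁻¹ = d * ((e : Ω) * d⁻¹ * (e : Ω)⁻¹) := by group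
      rw [e1]
      exact T.mul_mem hdT (conj_mem_of_stronglyClosed F hT (hQS e.2) (T.inv_mem hdT))
  have hCp : IsPGroup p ↥(Cfsg.Agent.Helper3.TT.stab ((Q ⊓ T).subgroupOf Q) ⊓ D.autGroup Q) :=
    (Cfsg.Agent.Helper3.OL.isPGroup_stab' hQp ((Q ⊓ T).subgroupOf Q)).to_le inf_le_left
  have hWinv : ∀ α ∈ D.autGroup Q, ∀ w ∈ (Q ⊓ T).subgroupOf Q, α w ∈ (Q ⊓ T).subgroupOf Q := by
    intro α hα w hw
    rw [Subgroup.mem_subgroupOf] at hw ⊢
    refine ⟨(α w).2, ?_⟩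
    have hαF : Q.subtype.comp α.toMonoidHom ∈ F.Hom Q :=
      hDF Q ((mem_autGroup_iff D hQS α).mp hα)
    have h1 := restrict_mem F (inf_le_left : Q ⊓ T ≤ Q) hαF
    exact hT.2 (Q ⊓ T) inf_le_right _ h1 ⟨w, hw⟩
  have hCn : ((Cfsg.Agent.Helper3.TT.stab ((Q ⊓ T).subgroupOf Q) ⊓ D.autGroup Q).subgroupOf
      (D.autGroup Q)).Normal := by
    constructor
    rintro ⟨h, hhA⟩ hh ⟨α, hα⟩
    have hh' : h ∈ Cfsg.Agent.Helper3.TT.stab ((Q ⊓ T).subgroupOf Q) ⊓ D.autGroup Q :=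
      Subgroup.mem_subgroupOf.mp hh
    apply Subgroup.mem_subgroupOf.mpr
    show α * h * α⁻¹ ∈ Cfsg.Agent.Helper3.TT.stab ((Q ⊓ T).subgroupOf Q) ⊓ D.autGroup Q
    refine ⟨?_, (D.autGroup Q).mul_mem ((D.autGroup Q).mul_mem hα hhA) ((D.autGroup Q).inv_mem hα)⟩
    have hmap : ((Q ⊓ T).subgroupOf Q).map α.toMonoidHom = (Q ⊓ T).subgroupOf Q := by
      apply Subgroup.eq_of_le_of_card_ge
      · rintro _ ⟨w, hw, rfl⟩
        exact hWinv α hα w hw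
      · rw [Subgroup.card_map_of_injective α.injective]
    have := Cfsg.Agent.Helper3.OL.stab_conj α h hh'.1
    rwa [hmap] at this
  have hCle : (Cfsg.Agent.Helper3.TT.stab ((Q ⊓ T).subgroupOf Q) ⊓ D.autGroup Q).subgroupOf
      (D.autGroup Q) ≤ Cfsg.pCore p ↥(D.autGroup Q) :=
    Cfsg.Agent.Helper24.RU.le_pCore hCn
      (hCp.comap_of_injective (D.autGroup Q).subtype (D.autGroup Q).subtype_injective)
  have hcmem : Cfsg.Agent.Helper3.OL.kapN Q (⟨d, hdS, hdN⟩ : normalizerIn S Q) ∈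
      Cfsg.autInducedBy S Q ⊓ (Cfsg.pCore p ↥(D.autGroup Q)).map (D.autGroup Q).subtype :=
    ⟨hc1, ⟨⟨_, hcD⟩, hCle (Subgroup.mem_subgroupOf.mpr ⟨hcst, hcD⟩), rfl⟩⟩
  have hinn := hle hcmem
  exact hdQ (Cfsg.Agent.Helper3.OL.mem_of_kapN_mem_inn hQS hQc _ hinn)

end Cfsg.Agent.Helper3.PIX
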