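import Mathlib
import Cfsg.Agent.Lib.PIX.PIXFhA
import Cfsg.Agent.Lib.PIX.PIXFhD
import Cfsg.Agent.Lib.PIX.PIXNGrow
import Cfsg.Agent.Lib.PIX.PIXStabD

/-!
# PIX-FHF (S5243, FamHyp.star): the `star` field for `famHH F E`.

RECIPE (`hT : F.StronglyClosed T := hE.1.2.2.2.1`; all cited lemmas BY STATEMENT).
Given `D ≤ F` with `FratS F D`, `P` `F`-centric, `P ∉ famHH F E`, i.e. `¬ E.IsCentric (P ⊓ T)`.
1. `exists_fn_conj_inf p hS F hF hT hPc.1` (`PIXFhD.lean`): `κ`, `P₁ := κ.range`, `Q₁ := P₁ ⊓ T` fully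
   normalized, `F.IsConj (P ⊓ T) Q₁`.
2. `¬ centralizerIn T Q₁ ≤ Q₁`: otherwise `centralizerIn_le_of_conj_fn` (`PIXFhA.lean`) shows
   `C_T(R'') ≤ R''` for every `E`-conjugate `R''` of `P ⊓ T` (as in `PIXFhE.lean` step 3), i.e.
   `E.IsCentric (P ⊓ T)`: contradiction.
3. Hence `¬ C ≤ P₁` for `C := centralizerIn T Q₁` (`C ≤ T`). By (the contrapositive of)
   `le_of_normalizer_growth p P₁ C` (`PIXNGrow.lean`; hypotheses as in `PIXFhE.lean` step 2) there is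
   `c ∈ C` normalizing `P₁` with `c ∉ P₁` (`by_contra` + `push_neg`).
4. `hfr P κ hκ`: `κ x = α ⟨φ₀ x, _⟩`, `α ∈ Aut_F(S)`, `φ₀ ∈ D.Hom P`. `Q₂ := φ₀.range`,
   `D.IsConj P Q₂ := ⟨φ₀, hφ₀, rfl⟩`, `P₁ = α(Q₂)` elementwise. Put `d := ((α⁻¹ ⟨c, _⟩ : S) : Ω)`. Then
   `d ∈ T` (`hT.2` for the map of `F` underlying `α⁻¹`, restricted to `T`), `d` normalizes `Q₂`
   (apply `α⁻¹` to `c y c⁻¹ ∈ P₁`), `d` centralizes `Q₂ ⊓ T` (its `α`-image lies in `P₁ ⊓ T = Q₁`,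
   centralized by `c`), `d ∉ Q₂` (else `c = α d ∈ P₁`).
5. `Q₂` is `F`-conjugate to `P` (`hDF`), so `centralizerIn S Q₂ ≤ Q₂` (`hPc.2`). Conclude with
   `not_le_inn_of_stab p hS F D hDF hT hQ₂S hQ₂c hdT hdN hdC hdQ` (`PIXStabD.lean`).
Keep the statement, name, namespace exactly (you may add imports).
-/

set_option autoImplicit false

namespace Cfsg.Agent.Helper3.PIX

open Cfsg Cfsg.FusionSystem Cfsg.Agent.Helper25 Cfsg.Agent.Helper26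

variable {Ω : Type*} [Group Ω] {S : Subgroup Ω}

theorem pixfhf_conj_mem_centralizerIn {T Q : Subgroup Ω} {x c : Ω}
    (hxT : ∀ t ∈ T, x * t * x⁻¹ ∈ T) (hxQ : ∀ y ∈ Q, x⁻¹ * y * x ∈ Q)
    (hc : c ∈ centralizerIn T Q) : x * c * x⁻¹ ∈ centralizerIn T Q := by
  obtain ⟨hcT, hcC⟩ := Subgroup.mem_inf.mp hc
  refine Subgroup.mem_inf.mpr ⟨hxT c hcT, ?_⟩
  rw [Subgroup.mem_centralizer_iff]
  intro y hy
  have h := Subgroup.mem_centralizer_iff.mp hcC (x⁻¹ * y * x) (hxQ y hy)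
  have e1 : y * (x * c * x⁻¹) = x * (x⁻¹ * y * x * c) * x⁻¹ := by group
  have e2 : x * c * x⁻¹ * y = x * (c * (x⁻¹ * y * x)) * x⁻¹ := by group
  rw [e1, e2, h]

theorem famHH_star [Finite S] (p : ℕ) [Fact p.Prime] (hS : IsPGroup p S)
    (F : FusionSystem S) (hF : F.IsSaturated p) {T : Subgroup Ω} (E : FusionSystem T)
    (hE : E.IsNormalIn F p) :
    ∀ D : FusionSystem S, D.IsSubsystemOf F → FratS F D →
      ∀ P : Subgroup Ω, F.IsCentric P → P ∉ famHH F E → ∃ Q, D.IsConj P Q ∧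
        ¬ (Cfsg.autInducedBy S Q ⊓ (Cfsg.pCore p ↥(D.autGroup Q)).map (D.autGroup Q).subtype ≤
          Cfsg.Inn Q) := by
  have hT : F.StronglyClosed T := hE.1.2.2.2.1
  have hEF : E.IsSubsystemOf F := hE.1.2.2.1
  intro D hDF hfr P hPc hPn
  have hPE : ¬ E.IsCentric (P ⊓ T) := fun h => hPn ⟨hPc, h⟩
  -- step 1
  obtain ⟨κ, hκ, hfn, hconj⟩ := exists_fn_conj_inf p hS F hF hT hPc.1
  have hκS : ∀ x : P, κ x ∈ S := (F.le_of_mem hκ).2
  have hP₁S : κ.range ≤ S := by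
    rintro _ ⟨x, rfl⟩
    exact hκS x
  -- step 2
  have hnot : ¬ centralizerIn T (κ.range ⊓ T) ≤ κ.range ⊓ T := by
    intro hle
    apply hPE
    refine ⟨inf_le_right, fun R'' hR'' => ?_⟩
    have hFc : F.IsConj (P ⊓ T) R'' := by
      obtain ⟨φ, hφ, hr⟩ := hR''
      exact ⟨φ, hEF _ hφ, hr⟩
    exact centralizerIn_le_of_conj_fn p hS F hF hT hfn hle
      (isConj_trans F (isConj_symm F hFc) hconj)
  -- step 3
  have hCT : centralizerIn T (κ.range ⊓ T) ≤ T := inf_le_left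
  have hsupS : κ.range ⊔ centralizerIn T (κ.range ⊓ T) ≤ S := sup_le hP₁S (hCT.trans hT.1)
  have hex : ∃ c ∈ centralizerIn T (κ.range ⊓ T),
      c ∈ Subgroup.normalizer (κ.range : Set Ω) ∧ c ∉ κ.range := by
    by_contra hall
    have hfin : Finite ↥(κ.range ⊔ centralizerIn T (κ.range ⊓ T)) := finite_of_le_finite hsupS
    have hle : centralizerIn T (κ.range ⊓ T) ≤ κ.range := by
      apply le_of_normalizer_growth p κ.range (centralizerIn T (κ.range ⊓ T)) (hS.to_le hsupS)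
      · intro x hx c hc
        have hxS : x ∈ S := hP₁S hx
        apply pixfhf_conj_mem_centralizerIn (fun t ht => conj_mem_of_stronglyClosed F hT hxS ht)
          ?_ hc
        intro y hy
        obtain ⟨hy1, hy2⟩ := Subgroup.mem_inf.mp hy
        refine Subgroup.mem_inf.mpr ⟨?_, conj_mem_of_stronglyClosed' F hT hxS hy2⟩
        exact mul_mem (mul_mem (inv_mem hx) hy1) hx
      · intro c hc hcN
        by_contra hcP
        exact hall ⟨c, hc, hcN, hcP⟩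
    exact hnot (le_inf hle hCT)
  obtain ⟨c, hcC, hcN, hcP⟩ := hex
  obtain ⟨hcT, hcCent⟩ := Subgroup.mem_inf.mp hcC
  have hcS : c ∈ S := hT.1 hcT
  -- step 4
  obtain ⟨α, hα, φ₀, hφ₀, hφ₀v⟩ := hfr P κ hκ
  have hφ₀S : ∀ x : P, φ₀ x ∈ S := (D.le_of_mem hφ₀).2
  have hQ₂S : φ₀.range ≤ S := by
    rintro _ ⟨x, rfl⟩
    exact hφ₀S x
  have hκα : ∀ x : P, κ x = ((α ⟨φ₀ x, hφ₀S x⟩ : S) : Ω) := fun x => hφ₀v x (hφ₀S x)
  -- membership in `κ.range` through `α`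
  have hP₁ : ∀ s : S, ((α s : S) : Ω) ∈ κ.range ↔ (s : Ω) ∈ φ₀.range := by
    intro s
    constructor
    · rintro ⟨x, hx⟩
      rw [hκα x] at hx
      have h1 : α ⟨φ₀ x, hφ₀S x⟩ = α s := Subtype.ext hx
      have h2 := α.injective h1
      exact ⟨x, congrArg Subtype.val h2⟩
    · rintro ⟨x, hx⟩
      refine ⟨x, ?_⟩
      rw [hκα x]
      have h1 : (⟨φ₀ x, hφ₀S x⟩ : S) = s := Subtype.ext hx
      rw [h1]
  -- `α` preserves `T`
  have hαT : ∀ s : S, (s : Ω) ∈ T → ((α s : S) : Ω) ∈ T := by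
    intro s hs
    have h1 : S.subtype.comp α.toMonoidHom ∈ F.Hom S := (mem_autGroup_iff F le_rfl α).mp hα
    exact hT.2 T le_rfl _ (restrict_mem F hT.1 h1) ⟨s, hs⟩
  have hαT' : ∀ s : S, (s : Ω) ∈ T → ((α⁻¹ s : S) : Ω) ∈ T := by
    intro s hs
    have h1 : S.subtype.comp (α⁻¹ : MulAut S).toMonoidHom ∈ F.Hom S :=
      (mem_autGroup_iff F le_rfl α⁻¹).mp (inv_mem hα)
    exact hT.2 T le_rfl _ (restrict_mem F hT.1 h1) ⟨s, hs⟩
  -- the element `d`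
  set dS : S := α⁻¹ ⟨c, hcS⟩ with hdS
  have hαd : α dS = ⟨c, hcS⟩ := by
    rw [hdS]
    simp
  have hdT : (dS : Ω) ∈ T := hαT' ⟨c, hcS⟩ hcT
  have hcN' := Subgroup.mem_normalizer_iff.mp hcN
  have hdN : (dS : Ω) ∈ Subgroup.normalizer (φ₀.range : Set Ω) := by
    apply mem_normalizer_of_forall
    · intro n hn
      have h1 : ((dS * ⟨n, hQ₂S hn⟩ * dS⁻¹ : S) : Ω) ∈ φ₀.range := by
        rw [← hP₁, map_mul, map_mul, map_inv, hαd]
        exact (hcN' _).mp ((hP₁ ⟨n, hQ₂S hn⟩).mpr hn)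
      exact h1
    · intro n hn
      have h1 : ((dS⁻¹ * ⟨n, hQ₂S hn⟩ * dS : S) : Ω) ∈ φ₀.range := by
        rw [← hP₁, map_mul, map_mul, map_inv, hαd]
        have h2 := (hP₁ ⟨n, hQ₂S hn⟩).mpr hn
        have h3 := (hcN' (c⁻¹ * ((α ⟨n, hQ₂S hn⟩ : S) : Ω) * c)).mpr (by
          have e : c * (c⁻¹ * ((α ⟨n, hQ₂S hn⟩ : S) : Ω) * c) * c⁻¹ = ((α ⟨n, hQ₂S hn⟩ : S) : Ω) := by
            group
          rw [e]
          exact h2)
        exact h3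
      exact h1
  have hdC : ∀ x ∈ φ₀.range ⊓ T, x * (dS : Ω) = (dS : Ω) * x := by
    intro x hx
    obtain ⟨hx1, hx2⟩ := Subgroup.mem_inf.mp hx
    have hxS : x ∈ S := hQ₂S hx1
    have h1 : ((α ⟨x, hxS⟩ : S) : Ω) ∈ κ.range ⊓ T :=
      Subgroup.mem_inf.mpr ⟨(hP₁ ⟨x, hxS⟩).mpr hx1, hαT ⟨x, hxS⟩ hx2⟩
    have h2 := Subgroup.mem_centralizer_iff.mp hcCent _ h1
    have h3 : α (⟨x, hxS⟩ * dS) = α (dS * ⟨x, hxS⟩) := by
      rw [map_mul, map_mul, hαd]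
      exact Subtype.ext h2
    exact congrArg Subtype.val (α.injective h3)
  have hdQ : (dS : Ω) ∉ φ₀.range := by
    intro hd
    apply hcP
    have h1 := (hP₁ dS).mpr hd
    rw [hαd] at h1
    exact h1
  -- step 5
  have hQ₂c : centralizerIn S φ₀.range ≤ φ₀.range := hPc.2 _ ⟨φ₀, hDF _ hφ₀, rfl⟩
  exact ⟨φ₀.range, ⟨φ₀, hφ₀, rfl⟩,
    not_le_inn_of_stab p hS F D hDF hT hQ₂S hQ₂c hdT hdN hdC hdQ⟩

end Cfsg.Agent.Helper3.PIX
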