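import Mathlib
import Cfsg.Agent.Lib.PIX.PIXFhC
import Cfsg.Agent.Lib.PIX.PIXFhE
import Cfsg.Agent.Lib.PIX.PIXFhF

/-!
# S5243: `FamHyp F p (famHH F E) (Hchi F hTS χ)` (assembly, helper3).
-/

set_option autoImplicit false

namespace Cfsg.Agent.Helper3.PIX

open Cfsg Cfsg.FusionSystem Cfsg.Agent.Helper25 Cfsg.Agent.Helper26

variable {Ω : Type*} [Group Ω] {S : Subgroup Ω}

theorem famHyp [Finite S] (p : ℕ) [Fact p.Prime] (hS : IsPGroup p S)
    (F : FusionSystem S) (hF : F.IsSaturated p) {T : Subgroup Ω} (hTS : T ≤ S)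
    (E : FusionSystem T) (hE : E.IsNormalIn F p) {Δ : Type*} [Group Δ]
    (χ : ↥(F.autGroup T) →* Δ) : FamHyp F p (famHH F E) (Hchi F hTS χ) where
  centric _ hP := hP.1
  conj := famHH_conj p F E hE
  overgroup := famHH_overgroup F E
  top := famHH_top F hTS E
  ess := famHH_ess p hS F hF E hE
  le_aut := hchi_le_aut F hTS χ
  normal := hchi_normal F hTS hE.1.2.2.2.1 χ
  star := famHH_star p hS F hF E hE

end Cfsg.Agent.Helper3.PIX
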