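import Mathlib
import Cfsg.Agent.Lib.PIX.PIXDefs

/-!
# PIX-FRATA (S5243, generic half): Frattini factorisation when `O^{p'}(Aut_F(P)) ≤ Aut_E(P)` is only
known for `P` in a family `HH` (closed under `F`-conjugacy, containing the `F`-essential subgroups).

RECIPE: these are COPIES of `Helper25.OpPrime_le_invCore_autGroup`
(`Lib/Helper25/FusionPrimeIndex2.lean`, l.126) and `Helper25.exists_aut_comp_of_primeIndex`
(`Lib/Helper25/FusionPrimeIndex3.lean`, l.24) with the hypothesis `h` restricted to `HH`: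
* in the first, replace `hPc.1` by `hHS P hP`, and `hc'` (centricity of the `α`-image) by
  `hconj P hP _ (isConj_map_aut F (hHS P hP) hα)`;
* in the second, replace `OpPrime_le_invCore_autGroup F E p h hess.1 hγ` by
  `OpPrime_le_invCore_fam F E p HH hconj hHS h (hess P hess') hγ` (`hess'` = the essentiality proof).
Keep the statements, names, namespace and imports exactly.
-/

set_option autoImplicit false

namespace Cfsg.Agent.Helper3.PIX

open Cfsg Cfsg.FusionSystem Cfsg.Agent.Helper25 Cfsg.Agent.Helper26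

variable {Ω : Type*} [Group Ω] {S : Subgroup Ω}

/-- If `E ≤ F` contains `O^{p'}(Aut_F(P))` for `P ∈ HH`, so does its `Aut_F(S)`-invariant core. -/
theorem OpPrime_le_invCore_fam (F E : FusionSystem S) (p : ℕ) (HH : Set (Subgroup Ω))
    (hconj : ∀ P ∈ HH, ∀ Q : Subgroup Ω, F.IsConj P Q → Q ∈ HH) (hHS : ∀ P ∈ HH, P ≤ S)
    (h : ∀ P ∈ HH, OpPrime F p P ≤ E.autGroup P) {P : Subgroup Ω} (hP : P ∈ HH) :
    OpPrime F p P ≤ (invCore F E).autGroup P := by
  have hPS : P ≤ S := hHS P hP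
  rw [OpPrime_eq_closure]
  apply (Subgroup.closure_le _).mpr
  rintro γ ⟨hγA, k, hk⟩
  show γ ∈ (invCore F E).autGroup P
  rw [mem_autGroup_iff (invCore F E) hPS]
  refine ⟨(mem_autGroup_iff E hPS γ).mp (h P hP (mem_OpPrime_of_orderOf F hγA hk)), ?_⟩
  intro α hα hP' hφS
  have he := autRestr_mem F hPS hα
  have hγ' : MulAut.congr (autRestr hPS α) γ ∈ F.autGroup _ := congr_mem_autGroup' F _ he hγA
  have hord : orderOf (MulAut.congr (autRestr hPS α) γ) = p ^ k := by
    rw [← hk]; exact MulEquiv.orderOf_eq (MulAut.congr (autRestr hPS α)) γ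
  have hc' := hconj P hP _ (isConj_map_aut F hPS hα)
  have h1 := h _ hc' (mem_OpPrime_of_orderOf F hγ' hord)
  refine ⟨_, (mem_autGroup_iff E (map_aut_le α P) _).mp h1, fun x => ?_⟩
  show (((autRestr hPS α) (γ ((autRestr hPS α).symm ⟨_, _⟩)) :
    ↥((P.subgroupOf S).map (S.subtype.comp α.toMonoidHom))) : Ω) = _
  have e : (⟨((α ⟨x, hP' x.2⟩ : S) : Ω), mem_map_aut hP' α x⟩ :
      ↥((P.subgroupOf S).map (S.subtype.comp α.toMonoidHom))) = autRestr hPS α x := Subtype.ext rfl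
  rw [e, MulEquiv.symm_apply_apply]
  rfl

/-- Frattini factorisation `F = Aut_F(S) ∘ invCore F E`. -/
theorem exists_aut_comp_fam [Finite S] (p : ℕ) [Fact p.Prime] (hS : IsPGroup p S)
    (F : FusionSystem S) (hF : F.IsSaturated p) (E : FusionSystem S) (HH : Set (Subgroup Ω))
    (hconj : ∀ P ∈ HH, ∀ Q : Subgroup Ω, F.IsConj P Q → Q ∈ HH) (hHS : ∀ P ∈ HH, P ≤ S)
    (hess : ∀ P : Subgroup Ω, F.IsEssential p P → P ∈ HH)
    (h : ∀ P ∈ HH, OpPrime F p P ≤ E.autGroup P) {P : Subgroup Ω} {φ : P →* Ω}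
    (hφ : φ ∈ F.Hom P) :
    ∃ α ∈ F.autGroup S, ∃ φ₀ : P →* Ω, ∃ h0 : φ₀ ∈ (invCore F E).Hom P,
      ∀ x : P, φ x = ((α ⟨φ₀ x, ((invCore F E).le_of_mem h0).2 x⟩ : S) : Ω) := by
  have hP : P ≤ S := (F.le_of_mem hφ).1
  have hT := stronglyClosed_self F
  have hAI : AutInv F (invCore F E) := invCore_autInv F E
  have hPr : FrattiniPr F (invCore F E) P φ := normal_family_induction' p hS F hF le_rfl
    (fun g hg v hv => S.mul_mem (S.mul_mem (S.inv_mem hg) hv) hg) (FrattiniPr F (invCore F E))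
    (frattiniPr_conj hT) (frattiniPr_comp hAI hT)
    (fun hφ h ψ hψ hinv => frattiniPr_inv hAI hT hφ h ψ hψ hinv)
    (fun P hPS hTP α hα => frattiniPr_of_le hT hPS hTP hα)
    (fun P _ => OpPrime F p P) (fun P _ _ => OpPrime_le_autGroup F p P)
    (fun P _ _ β hβ γ hγ => OpPrime_conj_mem F p hβ hγ)
    (fun P hP _ g hg hgN => normalizerMonoidHom_mem_OpPrime F hS hP hg hgN)
    (fun P hP hess' γ hγ => by
      have h1 := OpPrime_le_invCore_fam F E p HH hconj hHS h (hess P hess') hγ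
      rw [mem_autGroup_iff (invCore F E) hP] at h1
      exact ⟨1, Subgroup.one_mem _, _, restrict_mem (invCore F E) inf_le_left h1, fun x => rfl⟩) hφ
  obtain ⟨α, hα, φ₀, hφ₀, hv⟩ := hPr
  have hle : P ≤ P ⊓ S := le_inf le_rfl hP
  exact ⟨α, hα, φ₀.comp (Subgroup.inclusion hle), restrict_mem _ hle hφ₀,
    fun x => hv ⟨x, ⟨x.2, hP x.2⟩⟩⟩

end Cfsg.Agent.Helper3.PIX
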