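import Mathlib
import Cfsg.Agent.Lib.PIX.PIXFratA

/-!
# PIX-FRATB (S5243, generic half): index prime to `p`, Frattini and centric-equivalence from the
hypothesis on the family `HH` only.

RECIPE: COPIES of `Helper25.mem_autGroup_of_orderOf` (`Lib/Helper25/FusionPrimeIndex3.lean`, l.48)
and of the proof of `Cfsg.Agent.S5114.result` (`Cfsg/Agent/S5114.lean`), with
`exists_aut_comp_of_primeIndex p hS F hF E h` replaced by
`exists_aut_comp_fam p hS F hF E HH hconj hHS hess h` (statement in `PIXFratA.lean`; use it by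
statement, it may still be a `sorry` there). `FratS` is defined in `PIXDefs.lean` and unfolds to the
Frattini clause of `S5114`. Keep the statements, names, namespace and imports exactly.
-/

set_option autoImplicit false

namespace Cfsg.Agent.Helper3.PIX

open Cfsg Cfsg.FusionSystem Cfsg.Agent.Helper25 Cfsg.Agent.Helper26

variable {Ω : Type*} [Group Ω] {S : Subgroup Ω}

/-- `p`-elements of `Aut_F(P)` lie in `Aut_E(P)`, for every `P ≤ S`. -/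
theorem mem_autGroup_of_orderOf_fam [Finite S] (p : ℕ) [Fact p.Prime] (hS : IsPGroup p S)
    (F : FusionSystem S) (hF : F.IsSaturated p) (E : FusionSystem S) (HH : Set (Subgroup Ω))
    (hconj : ∀ P ∈ HH, ∀ Q : Subgroup Ω, F.IsConj P Q → Q ∈ HH) (hHS : ∀ P ∈ HH, P ≤ S)
    (hess : ∀ P : Subgroup Ω, F.IsEssential p P → P ∈ HH)
    (h : ∀ P ∈ HH, OpPrime F p P ≤ E.autGroup P) {P : Subgroup Ω} (hP : P ≤ S) {γ : MulAut P}
    (hγA : γ ∈ F.autGroup P) {k : ℕ} (hk : orderOf γ = p ^ k) : γ ∈ E.autGroup P := by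
  obtain ⟨Q, ⟨φ, hφ, rfl⟩, hfa, -⟩ := hF P hP
  have hRS : φ.range ≤ S := range_le F hφ
  have : Finite φ.range := finite_of_le_finite hRS
  have hγ' : MulAut.congr (homEquiv F hφ) γ ∈ F.autGroup φ.range := congr_mem_autGroup F hφ hγA
  have hord : orderOf (MulAut.congr (homEquiv F hφ) γ) = p ^ k := by
    rw [← hk]; exact MulEquiv.orderOf_eq (MulAut.congr (homEquiv F hφ)) γ
  have hsyl := (isFullyAutomized_iff F p hRS).mp hfa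
  have hpz : IsPGroup p (Subgroup.zpowers (MulAut.congr (homEquiv F hφ) γ)) := by
    apply IsPGroup.of_card (n := k)
    rw [Nat.card_zpowers, hord]
  obtain ⟨δ, hδ, hle⟩ := hsyl.exists_conj_le ((Subgroup.zpowers_le).mpr hγ') hpz
  have hmem : δ * MulAut.congr (homEquiv F hφ) γ * δ⁻¹ ∈
      Cfsg.conjBy (Subgroup.zpowers (MulAut.congr (homEquiv F hφ) γ)) δ := by
    rw [mem_conjBy]
    have : δ⁻¹ * (δ * MulAut.congr (homEquiv F hφ) γ * δ⁻¹) * δ = MulAut.congr (homEquiv F hφ) γ := by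
      group
    rw [this]
    exact Subgroup.mem_zpowers _
  obtain ⟨g, hg, hgv⟩ := (mem_autInducedBy_iff _).mp (hle hmem)
  -- ψ := δ ∘ φ
  have hδF := (mem_autGroup_iff F hRS δ).mp hδ
  obtain ⟨ψ, hψdef⟩ : ∃ ψ : P →* Ω, ψ = (φ.range.subtype.comp δ.toMonoidHom).comp
      (φ.codRestrict φ.range fun x => ⟨x, rfl⟩) := ⟨_, rfl⟩
  have hψ : ψ ∈ F.Hom P := by rw [hψdef]; exact F.comp_mem hφ hδF _
  have hψv : ∀ x : P, ψ x = ((δ (homEquiv F hφ x) : φ.range) : Ω) := fun x => by rw [hψdef]; rfl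
  obtain ⟨α', hα', ψ₀, hψ₀, hv⟩ := exists_aut_comp_fam p hS F hF E HH hconj hHS hess h hψ
  have hψ₀E : ψ₀ ∈ E.Hom P := invCore_le F E hψ₀
  have hψ₀S := (E.le_of_mem hψ₀E).2
  obtain ⟨g', hg'⟩ : ∃ g' : S, g' = α'⁻¹ ⟨g, hg⟩ := ⟨_, rfl⟩
  have hαg' : α' g' = ⟨g, hg⟩ := by rw [hg']; simp
  -- the key relation
  have key : ∀ x : P, ψ₀ (γ x) = (g' : Ω) * ψ₀ x * (g' : Ω)⁻¹ := by
    intro x
    have h1 : ((α' ⟨ψ₀ (γ x), hψ₀S _⟩ : S) : Ω) = g * ψ x * g⁻¹ := by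
      rw [← hv, hψv, hψv]
      have h2 := hgv (δ (homEquiv F hφ x))
      rw [← h2]
      show _ = ((δ ((MulAut.congr (homEquiv F hφ) γ) (δ⁻¹ (δ (homEquiv F hφ x)))) : φ.range) : Ω)
      rw [MulAut.inv_apply_self]
      show _ = ((δ (homEquiv F hφ (γ ((homEquiv F hφ).symm (homEquiv F hφ x)))) : φ.range) : Ω)
      rw [MulEquiv.symm_apply_apply]
    have h3 : α' ⟨ψ₀ (γ x), hψ₀S _⟩ = α' (g' * ⟨ψ₀ x, hψ₀S x⟩ * g'⁻¹) := by
      apply Subtype.ext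
      rw [h1, map_mul, map_mul, map_inv, hαg', hv x]
      rfl
    have h4 := α'.injective h3
    exact congrArg Subtype.val h4
  -- assemble
  obtain ⟨θ, hθ, hθv⟩ := E.inv_mem hψ₀E
  have hc : conjHom ψ₀.range (g' : Ω) ∈ E.Hom ψ₀.range := E.conj_mem (range_le E hψ₀E) g'.2
  have hχ₁ : (conjHom ψ₀.range (g' : Ω)).comp (ψ₀.codRestrict ψ₀.range fun x => ⟨x, rfl⟩)
      ∈ E.Hom P := E.comp_mem hψ₀E hc _
  have hχ₁r : ∀ x : P, ((conjHom ψ₀.range (g' : Ω)).comp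
      (ψ₀.codRestrict ψ₀.range fun x => ⟨x, rfl⟩)) x ∈ ψ₀.range := by
    intro x
    show (g' : Ω) * ψ₀ x * (g' : Ω)⁻¹ ∈ ψ₀.range
    rw [← key]; exact ⟨_, rfl⟩
  rw [mem_autGroup_iff E hP]
  refine comp_mem' E hχ₁ hθ hχ₁r (fun x => ?_)
  have e := hom_congr_val θ (hχ₁r x) (⟨γ x, rfl⟩ : ψ₀ (γ x) ∈ ψ₀.range) (key x).symm
  rw [e, hθv]
  rfl

/-- The analogue of `S5114` for a family. -/
theorem facts_fam [Finite S] (p : ℕ) [Fact p.Prime] (hS : IsPGroup p S)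
    (F : FusionSystem S) (hF : F.IsSaturated p) (E : FusionSystem S) (hEF : E.IsSubsystemOf F)
    (HH : Set (Subgroup Ω))
    (hconj : ∀ P ∈ HH, ∀ Q : Subgroup Ω, F.IsConj P Q → Q ∈ HH) (hHS : ∀ P ∈ HH, P ≤ S)
    (hess : ∀ P : Subgroup Ω, F.IsEssential p P → P ∈ HH)
    (h : ∀ P ∈ HH, OpPrime F p P ≤ E.autGroup P) :
    E.HasPrimeToPIndexIn F p ∧ FratS F E ∧ ∀ P : Subgroup Ω, E.IsCentric P ↔ F.IsCentric P := by
  have hfrat : ∀ (P : Subgroup Ω) (φ : P →* Ω), φ ∈ F.Hom P → ∃ α ∈ F.autGroup S, ∃ φ₀ ∈ E.Hom P,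
      ∀ (x : P) (hx : φ₀ x ∈ S), φ x = ((α ⟨φ₀ x, hx⟩ : S) : Ω) := by
    intro P φ hφ
    obtain ⟨α, hα, φ₀, hφ₀, hv⟩ := exists_aut_comp_fam p hS F hF E HH hconj hHS hess h hφ
    exact ⟨α, hα, φ₀, invCore_le F E hφ₀, fun x _ => hv x⟩
  refine ⟨⟨hEF, fun P hP => ?_⟩, hfrat, fun P => ⟨fun hPc => ?_, fun hPc => ?_⟩⟩
  · show OpPrime F p P ≤ E.autGroup P
    rw [OpPrime_eq_closure]
    apply (Subgroup.closure_le _).mpr
    rintro γ ⟨hγA, k, hk⟩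
    exact mem_autGroup_of_orderOf_fam p hS F hF E HH hconj hHS hess h hP hγA hk
  · refine ⟨hPc.1, ?_⟩
    rintro Q ⟨φ, hφ, rfl⟩
    obtain ⟨α, hα, φ₀, hφ₀, hv⟩ := hfrat P φ hφ
    have hφ₀S := (E.le_of_mem hφ₀).2
    have hcen := hPc.2 φ₀.range ⟨φ₀, hφ₀, rfl⟩
    intro c hc
    obtain ⟨hcS, hcC⟩ := mem_centralizerIn.mp hc
    have hc₀ : ((α⁻¹ ⟨c, hcS⟩ : S) : Ω) ∈ centralizerIn S φ₀.range := by
      rw [mem_centralizerIn]
      refine ⟨(α⁻¹ ⟨c, hcS⟩).2, ?_⟩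
      rintro _ ⟨x, rfl⟩
      have h1 : α (⟨φ₀ x, hφ₀S x⟩ * α⁻¹ ⟨c, hcS⟩) = α (α⁻¹ ⟨c, hcS⟩ * ⟨φ₀ x, hφ₀S x⟩) := by
        rw [map_mul, map_mul, MulAut.apply_inv_self]
        apply Subtype.ext
        show ((α ⟨φ₀ x, hφ₀S x⟩ : S) : Ω) * c = c * ((α ⟨φ₀ x, hφ₀S x⟩ : S) : Ω)
        rw [← hv x (hφ₀S x)]
        exact hcC _ ⟨x, rfl⟩
      exact congrArg Subtype.val (α.injective h1)
    obtain ⟨x₀, hx₀⟩ := hcen hc₀
    refine ⟨x₀, ?_⟩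
    rw [hv x₀ (hφ₀S x₀)]
    have e : (⟨φ₀ x₀, hφ₀S x₀⟩ : S) = α⁻¹ ⟨c, hcS⟩ := Subtype.ext hx₀
    rw [e, MulAut.apply_inv_self]
  · refine ⟨hPc.1, ?_⟩
    rintro Q ⟨φ, hφ, hr⟩
    exact hPc.2 Q ⟨φ, hEF _ hφ, hr⟩

end Cfsg.Agent.Helper3.PIX
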