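import Mathlib
import Cfsg.Agent.Lib.PIX.PIXFratB

/-!
# PIX-INV (S5243, generic half): `F0 F p HH Hg` is invariant under `Aut_F(S)`.

RECIPE. `admH_invCore`: the four fields for `invCore F (F0 ..)` (see `Lib/Helper25/FusionPrimeIndex.lean`:
`mem_invCore : φ ∈ (invCore F E).Hom P ↔ φ ∈ E.Hom P ∧ InvPr F E P φ`).
* `le`: `invCore_le` then `F0_le`.
* `op`: `OpPrime_le_invCore_fam F _ p HH hH.conj _ (admH_F0 ..).op hP` (`PIXFratA.lean`, by statement).
* `ext`: given `ψ ∈ F.Hom R`, `P ≤ R`, `P ∈ HH`, `ψ|P ∈ invCore`. First `ψ ∈ F0.Hom R` by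
  `(admH_F0 ..).ext`. For `InvPr`: let `α ∈ Aut_F(S)`. Build the `F`-map `χ` on
  `αR := (R.subgroupOf S).map (S.subtype.comp α.toMonoidHom)` with `χ (α x) = α (ψ x)` (compose the
  inverse of `autRestr`/`autRestr_mem` (`FusionPrimeIndex2.lean`) with `ψ` and with `α` itself, all maps
  of `F`). Its restriction to `αP ≤ αR` takes the same values as the `χ'` given by
  `InvPr F (F0 ..) P (ψ|P)`, hence equals it and lies in `F0`; `αP ∈ HH` by `hH.conj` and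
  `isConj_map_aut`; conclude `χ ∈ F0.Hom (αR)` by `(admH_F0 ..).ext`.
* `aut`: for `γ ∈ Hg`: `γ ∈ Aut_{F0}(S)` by `(admH_F0 ..).aut`; `InvPr`: for `α ∈ Aut_F(S)`,
  `α * γ * α⁻¹ ∈ Hg` (`hH.normal`) so it lies in `Aut_{F0}(S)`; restrict its underlying map to
  `αS = (S.subgroupOf S).map _ ≤ S` (`restrict_mem`) to get the required `χ`.
`F0_autInv`: `F0 ≤ invCore F F0` by `F0_le_of_admH admH_invCore`, and `invCore_autInv F (F0 ..)`
gives, for `φ ∈ F0.Hom P ⊆ (invCore ..).Hom P`, a `χ ∈ (invCore ..).Hom _ ⊆ F0.Hom _` with the right values.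
Keep the statements, names, namespace and imports exactly.
-/

set_option autoImplicit false

namespace Cfsg.Agent.Helper3.PIX

open Cfsg Cfsg.FusionSystem Cfsg.Agent.Helper25 Cfsg.Agent.Helper26

variable {Ω : Type*} [Group Ω] {S : Subgroup Ω}

theorem admH_invCore [Finite S] (p : ℕ) [Fact p.Prime] (hS : IsPGroup p S)
    (F : FusionSystem S) (hF : F.IsSaturated p) {HH : Set (Subgroup Ω)} {Hg : Subgroup (MulAut S)}
    (hH : FamHyp F p HH Hg) : AdmH F p HH Hg (invCore F (F0 F p HH Hg)) := by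
  have hHS : ∀ P ∈ HH, P ≤ S := fun P hP => (hH.centric P hP).1
  have hadm := admH_F0 F p HH hHS hH.le_aut
  refine ⟨?_, ?_, ?_, ?_⟩
  · -- le
    intro P φ hφ
    exact F0_le F p HH Hg P (invCore_le F _ hφ)
  · -- op
    intro P hP
    exact OpPrime_le_invCore_fam F _ p HH hH.conj hHS hadm.op hP
  · -- ext
    intro R ψ hψ P hPR hPH h
    have hψ0 : ψ ∈ (F0 F p HH Hg).Hom R := hadm.ext R ψ hψ P hPR hPH (invCore_le F _ h)
    refine ⟨hψ0, ?_⟩
    intro α hα hR hψS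
    have hPS : P ≤ S := hHS P hPH
    -- the inverse of `α` restricted to `αR`
    have hαi : (α⁻¹ : MulAut S) ∈ F.autGroup S := Subgroup.inv_mem _ hα
    have hθ : (S.subtype.comp (α⁻¹ : MulAut S).toMonoidHom).comp
        (Subgroup.inclusion (map_aut_le α R)) ∈
        F.Hom ((R.subgroupOf S).map (S.subtype.comp α.toMonoidHom)) :=
      restrict_mem F (map_aut_le α R) ((mem_autGroup_iff F le_rfl _).mp hαi)
    have hθR : ∀ y : ↥((R.subgroupOf S).map (S.subtype.comp α.toMonoidHom)),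
        ((S.subtype.comp (α⁻¹ : MulAut S).toMonoidHom).comp
          (Subgroup.inclusion (map_aut_le α R))) y ∈ R := by
      rintro ⟨y, hy⟩
      obtain ⟨x, rfl⟩ := (mem_map_aut_iff hR α).mp hy
      show (((α⁻¹ : MulAut S) ⟨((α ⟨x, hR x.2⟩ : S) : Ω), _⟩ : S) : Ω) ∈ R
      have e : (⟨((α ⟨x, hR x.2⟩ : S) : Ω), map_aut_le α R (mem_map_aut hR α x)⟩ : S) =
          α ⟨x, hR x.2⟩ := Subtype.ext rfl
      rw [e, MulAut.inv_apply_self]
      exact x.2
    have h1 := F.comp_mem hθ hψ hθR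
    have h1S : ∀ y : ↥((R.subgroupOf S).map (S.subtype.comp α.toMonoidHom)),
        (ψ.comp (((S.subtype.comp (α⁻¹ : MulAut S).toMonoidHom).comp
          (Subgroup.inclusion (map_aut_le α R))).codRestrict R hθR)) y ∈ S := fun y => hψS _
    have h2 := F.comp_mem h1 ((mem_autGroup_iff F le_rfl α).mp hα) h1S
    obtain ⟨χ, hχdef⟩ : ∃ χ : ↥((R.subgroupOf S).map (S.subtype.comp α.toMonoidHom)) →* Ω,
        χ = (S.subtype.comp α.toMonoidHom).comp
          ((ψ.comp (((S.subtype.comp (α⁻¹ : MulAut S).toMonoidHom).comp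
            (Subgroup.inclusion (map_aut_le α R))).codRestrict R hθR)).codRestrict S h1S) :=
      ⟨_, rfl⟩
    have hχF : χ ∈ F.Hom ((R.subgroupOf S).map (S.subtype.comp α.toMonoidHom)) := hχdef ▸ h2
    have hχv : ∀ x : R, χ ⟨((α ⟨x, hR x.2⟩ : S) : Ω), mem_map_aut hR α x⟩ =
        ((α ⟨ψ x, hψS x⟩ : S) : Ω) := by
      intro x
      rw [hχdef]
      show ((α ⟨ψ ⟨(((α⁻¹ : MulAut S) ⟨((α ⟨x, hR x.2⟩ : S) : Ω), _⟩ : S) : Ω), _⟩, _⟩ : S) : Ω) = _
      have e : (⟨((α ⟨x, hR x.2⟩ : S) : Ω), map_aut_le α R (mem_map_aut hR α x)⟩ : S) =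
          α ⟨x, hR x.2⟩ := Subtype.ext rfl
      have e2 : (⟨(((α⁻¹ : MulAut S) ⟨((α ⟨x, hR x.2⟩ : S) : Ω),
          map_aut_le α R (mem_map_aut hR α x)⟩ : S) : Ω),
          hθR ⟨((α ⟨x, hR x.2⟩ : S) : Ω), mem_map_aut hR α x⟩⟩ : R) = x := by
        apply Subtype.ext
        show (((α⁻¹ : MulAut S) ⟨((α ⟨x, hR x.2⟩ : S) : Ω), _⟩ : S) : Ω) = (x : Ω)
        rw [e, MulAut.inv_apply_self]
      congr 3
      exact congrArg ψ e2
    refine ⟨χ, ?_, hχv⟩
    -- `αP ≤ αR`, `αP ∈ HH`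
    have hle : (P.subgroupOf S).map (S.subtype.comp α.toMonoidHom) ≤
        (R.subgroupOf S).map (S.subtype.comp α.toMonoidHom) := by
      intro y hy
      obtain ⟨x, rfl⟩ := (mem_map_aut_iff hPS α).mp hy
      exact mem_map_aut hR α (Subgroup.inclusion hPR x)
    have hαPH : (P.subgroupOf S).map (S.subtype.comp α.toMonoidHom) ∈ HH :=
      hH.conj P hPH _ (isConj_map_aut F hPS hα)
    refine hadm.ext _ χ hχF _ hle hαPH ?_
    obtain ⟨χ', hχ', hχ'v⟩ := h.2 α hα hPS (fun x => hψS _)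
    have heq : χ.comp (Subgroup.inclusion hle) = χ' := by
      ext ⟨y, hy⟩
      obtain ⟨x, rfl⟩ := (mem_map_aut_iff hPS α).mp hy
      rw [hχ'v x]
      exact hχv (Subgroup.inclusion hPR x)
    rw [heq]
    exact hχ'
  · -- aut
    intro γ hγ
    rw [mem_autGroup_iff _ le_rfl]
    refine ⟨(mem_autGroup_iff _ le_rfl γ).mp (hadm.aut hγ), ?_⟩
    intro α hα hSS hφS
    have hδ : α * γ * α⁻¹ ∈ (F0 F p HH Hg).autGroup S := hadm.aut (hH.normal α hα γ hγ)
    have hδ' := restrict_mem (F0 F p HH Hg) (map_aut_le α S)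
      ((mem_autGroup_iff _ le_rfl _).mp hδ)
    refine ⟨_, hδ', fun x => ?_⟩
    show (((α * γ * α⁻¹ : MulAut S) ⟨((α ⟨x, hSS x.2⟩ : S) : Ω), _⟩ : S) : Ω) = _
    have e : (⟨((α ⟨x, hSS x.2⟩ : S) : Ω), map_aut_le α S (mem_map_aut hSS α x)⟩ : S) =
        α ⟨x, hSS x.2⟩ := Subtype.ext rfl
    rw [e, MulAut.mul_apply, MulAut.mul_apply, MulAut.inv_apply_self]
    rfl

theorem F0_autInv [Finite S] (p : ℕ) [Fact p.Prime] (hS : IsPGroup p S)
    (F : FusionSystem S) (hF : F.IsSaturated p) {HH : Set (Subgroup Ω)} {Hg : Subgroup (MulAut S)}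
    (hH : FamHyp F p HH Hg) : AutInv F (F0 F p HH Hg) := by
  have hle : (F0 F p HH Hg).IsSubsystemOf (invCore F (F0 F p HH Hg)) :=
    F0_le_of_admH (admH_invCore p hS F hF hH)
  intro α hα P hPT φ hφ
  have hφ' : φ ∈ (invCore F (F0 F p HH Hg)).Hom P := hle P hφ
  obtain ⟨χ, hχ, hχv⟩ := invCore_autInv F (F0 F p HH Hg) hα hPT hφ'
  exact ⟨χ, invCore_le F _ hχ, hχv⟩

end Cfsg.Agent.Helper3.PIX
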