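import Mathlib
import Cfsg.Agent.Lib.PIX.PIXExtS

/-!
# PIX-NORMAL (S5243, generic half): packaging of `IsNormalIn` for a subsystem over `S` itself.

RECIPE. Unfold `FusionSystem.IsNormalIn`, `IsWeaklyNormalIn`, `IsInvariantIn`
(`Cfsg/Prelude/Def_FusionSystem.lean`, l.302-330) with `T := S`:
* `D.IsSubsystemOf F` = `hDF`; `F.StronglyClosed S` = `Helper25.stronglyClosed_self F`;
* invariance clause: from `hinv : AutInv F D` (`Lib/Helper25/FusionInvariant.lean`, l.51): it gives
  `χ` with `χ ⟨α ⟨x, _⟩, mem_map_aut ..⟩ = α ⟨φ x, _⟩`; the frozen clause quantifies over the membership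
  proofs `hφx`, `hαx`, which are proof-irrelevant (`Subtype.ext rfl` / `congrArg`);
* Frattini clause = `hfr` (unfold `FratS`, `PIXDefs.lean`);
* extension clause = `ext_clause_top F D hDF` (`PIXExtS.lean`, by statement).
Keep the statement, name, namespace and imports exactly.
-/

set_option autoImplicit false

namespace Cfsg.Agent.Helper3.PIX

open Cfsg Cfsg.FusionSystem Cfsg.Agent.Helper25 Cfsg.Agent.Helper26

variable {Ω : Type*} [Group Ω] {S : Subgroup Ω}

/-- A saturated, `Aut_F(S)`-invariant subsystem over `S` with the Frattini property is normal. -/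
theorem isNormalIn_of_autInv_fratS (p : ℕ) (F D : FusionSystem S) (hF : F.IsSaturated p)
    (hD : D.IsSaturated p) (hDF : D.IsSubsystemOf F) (hinv : AutInv F D) (hfr : FratS F D) :
    D.IsNormalIn F p := by
  have hSC : F.StronglyClosed S := ⟨le_rfl, fun _ _ _ hφ x => (F.le_of_mem hφ).2 x⟩
  refine ⟨⟨hD, hF, hDF, hSC, ?_, ?_⟩, ext_clause_top F D hDF⟩
  · intro P hPT φ hφ α hα
    obtain ⟨χ, hχ, hχv⟩ := hinv hα hPT hφ
    refine ⟨χ, hχ, ?_⟩
    intro x hφx hαx
    exact hχv x
  · intro P _ φ hφ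
    exact hfr P φ hφ

end Cfsg.Agent.Helper3.PIX
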