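import Mathlib
import Cfsg.Agent.Lib.PIX.PIXFratB

/-!
# PIX-SAT (S5243, generic half): `F0 F p HH Hg` is saturated.

RECIPE: COPY of `Helper3.PPrimeRes.minSys_isSaturated` (`Lib/Helper3/PPrimeRes.lean`, l.122) with
the family `{P | F.IsCentric P}` replaced by `HH`:
* `hA := admH_F0 F p HH (fun P hP => (hH.centric P hP).1) hH.le_aut`;
  `⟨hidx, hfrat, hcen⟩ := facts_fam p hS F hF _ (F0_le F p HH Hg) HH hH.conj _ hH.ess hA.op`
  (`hfrat : FratS F (F0 ..)` unfolds to the old `hfrat`).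
* apply `Cfsg.Agent.S5110.result p hS (F0 F p HH Hg) HH ...`; closure under `F0`-conjugacy from
  `hH.conj` (an `F0`-conjugacy is an `F`-conjugacy by `hA.le`).
* `hsat`: as in the old proof; where it used `hA.ext _ ψ hψ R hRN hRc`, now `R ∈ HH` by
  `hH.conj` (R is `F`-conjugate to `φ₀.range ∈ HH`, itself `F`-conjugate to `P ∈ HH`).
* `hgen`: same `predSub` system `D''`; `AdmH` for `D''`: `le`, `op` (for `P ∈ HH`, by `hD' P hP`),
  `ext` (the overgroup `R ∈ HH` by `hH.overgroup`), and the new field `aut`: for `γ ∈ Hg`,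
  `γ ∈ Aut_{F0}(S)` by `hA.aut` and the underlying map lies in `D'.Hom S` by `hD' S hH.top`.
* `hstar`: `P` is `F0`-centric, so `F`-centric by `hcen`; apply `hH.star (F0 ..) (F0_le ..) hfrat`.
Keep the statement, name, namespace and imports exactly.
-/

set_option autoImplicit false

namespace Cfsg.Agent.Helper3.PIX

open Cfsg Cfsg.FusionSystem Cfsg.Agent.Helper25 Cfsg.Agent.Helper26 Cfsg.Agent.Helper3.PPrimeRes

variable {Ω : Type*} [Group Ω] {S : Subgroup Ω}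

theorem F0_isSaturated [Finite S] (p : ℕ) [Fact p.Prime] (hS : IsPGroup p S)
    (F : FusionSystem S) (hF : F.IsSaturated p) {HH : Set (Subgroup Ω)} {Hg : Subgroup (MulAut S)}
    (hH : FamHyp F p HH Hg) : (F0 F p HH Hg).IsSaturated p := by
  have hHS : ∀ P ∈ HH, P ≤ S := fun P hP => (hH.centric P hP).1
  have hA := admH_F0 F p HH hHS hH.le_aut
  obtain ⟨hidx, hfrat, hcen⟩ :=
    facts_fam p hS F hF _ (F0_le F p HH Hg) HH hH.conj hHS hH.ess hA.op
  have hEF : ∀ {P Q : Subgroup Ω}, (F0 F p HH Hg).IsConj P Q → F.IsConj P Q := by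
    rintro P Q ⟨φ, hφ, hr⟩
    exact ⟨φ, hA.le _ hφ, hr⟩
  refine Cfsg.Agent.S5110.result p hS (F0 F p HH Hg) HH hHS
    (fun P hP Q hQ => hH.conj P hP Q (hEF hQ)) ?_ ?_ ?_
  · -- saturation axioms on the members of `HH`
    intro P hP
    have hPc : F.IsCentric P := hH.centric P hP
    obtain ⟨Q₀, hPQ₀, hQ₀⟩ := exists_isConj_fullyNormalized F hPc.1
    obtain ⟨φ, hφ, hr⟩ := hPQ₀
    obtain ⟨α, hα, φ₀, hφ₀, hv⟩ := hfrat P φ hφ
    have hfn := fullyNormalized_of_frattini F hQ₀ hφ hr (hA.le _ hφ₀) hv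
    obtain ⟨-, hfa, hrec⟩ := of_fullyNormalized p hS F hF hfn
    have hP'S : φ₀.range ≤ S := hfn.1
    have hP'H : φ₀.range ∈ HH := hH.conj P hP _ ⟨φ₀, hA.le _ hφ₀, rfl⟩
    refine ⟨φ₀.range, ⟨φ₀, hφ₀, rfl⟩, ?_, hP'S, ?_⟩
    · rw [isFullyAutomized_iff _ p hP'S] at hfa ⊢
      refine hfa.of_le (autInducedBy_le_autGroup _ hP'S) ?_
      intro γ hγ
      rw [mem_autGroup_iff _ hP'S] at hγ ⊢
      exact hA.le _ hγ
    · intro R φ' hφ' hr'
      have hφ'F : φ' ∈ F.Hom R := hA.le _ hφ'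
      obtain ⟨ψ, hψ, hext⟩ := hrec.2 R φ' hφ'F hr'
      have hRN : R ≤ extender S R φ' := le_extender F hφ'F
      have hRH : R ∈ HH := hH.conj _ hP'H R (isConj_symm F ⟨φ', hφ'F, hr'⟩)
      refine ⟨ψ, hA.ext _ ψ hψ R hRN hRH ?_, hext⟩
      have e : ψ.comp (Subgroup.inclusion hRN) = φ' := by
        ext x
        exact hext x.1 x.2 (hRN x.2)
      rw [e]; exact hφ'
  · -- generation by maps between members of `HH`
    intro D' hD' P φ hφ
    let D'' : FusionSystem S := predSub (F0 F p HH Hg) (fun P φ => φ ∈ D'.Hom P)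
      (fun hP hg => D'.conj_mem hP hg)
      (fun _ _ h1 h2 h => D'.comp_mem h1 h2 h)
      (by
        intro P φ _ h1 ψ _ hinv
        obtain ⟨ψ', hψ', hinv'⟩ := D'.inv_mem h1
        have : ψ = ψ' := by
          ext ⟨_, x, rfl⟩
          rw [hinv, hinv']
        rw [this]; exact hψ')
    have hD'' : AdmH F p HH Hg D'' := by
      refine ⟨fun P φ h => hA.le _ h.1, fun P hPH γ hγ => ?_,
        fun R ψ hψ P hPR hPH h => ?_, fun γ hγ => ?_⟩
      · rw [mem_autGroup_iff _ (hHS P hPH)]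
        have h1 : P.subtype.comp γ.toMonoidHom ∈ (F0 F p HH Hg).Hom P :=
          (mem_autGroup_iff _ (hHS P hPH) γ).mp (hA.op P hPH hγ)
        exact ⟨h1, hD' P hPH h1⟩
      · have h1 : ψ ∈ (F0 F p HH Hg).Hom R := hA.ext R ψ hψ P hPR hPH h.1
        have hRH : R ∈ HH := hH.overgroup P hPH R hPR (F.le_of_mem hψ).1
        exact ⟨h1, hD' R hRH h1⟩
      · rw [mem_autGroup_iff _ le_rfl]
        have h1 : S.subtype.comp γ.toMonoidHom ∈ (F0 F p HH Hg).Hom S :=
          (mem_autGroup_iff _ le_rfl γ).mp (hA.aut hγ)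
        exact ⟨h1, hD' S hH.top h1⟩
    exact (hφ.2 D'' hD'').2
  · intro P hPc hPn
    exact hH.star (F0 F p HH Hg) (F0_le F p HH Hg) hfrat P ((hcen P).mp hPc) hPn

end Cfsg.Agent.Helper3.PIX
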