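import Mathlib
import Cfsg.Agent.Lib.PIX.PIXSat
import Cfsg.Agent.Lib.PIX.PIXInv
import Cfsg.Agent.Lib.PIX.PIXNormal

/-!
# S5243, generic half: the summary theorem for `F0 F p HH Hg` (assembly, helper3).
-/

set_option autoImplicit false

namespace Cfsg.Agent.Helper3.PIX

open Cfsg Cfsg.FusionSystem Cfsg.Agent.Helper25 Cfsg.Agent.Helper26

variable {Ω : Type*} [Group Ω] {S : Subgroup Ω}

theorem F0_main [Finite S] (p : ℕ) [Fact p.Prime] (hS : IsPGroup p S)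
    (F : FusionSystem S) (hF : F.IsSaturated p) {HH : Set (Subgroup Ω)} {Hg : Subgroup (MulAut S)}
    (hH : FamHyp F p HH Hg) :
    (F0 F p HH Hg).IsNormalIn F p ∧ (F0 F p HH Hg).IsSaturated p ∧
      (F0 F p HH Hg).HasPrimeToPIndexIn F p ∧ FratS F (F0 F p HH Hg) ∧
      AutInv F (F0 F p HH Hg) ∧ Hg ≤ (F0 F p HH Hg).autGroup S ∧
      (∀ R : FusionSystem S, F.IsPPrimeResidual p R → R.IsSubsystemOf (F0 F p HH Hg)) ∧
      ∀ D : FusionSystem S, AdmH F p HH Hg D → (F0 F p HH Hg).IsSubsystemOf D := by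
  have hHS : ∀ P ∈ HH, P ≤ S := fun P hP => (hH.centric P hP).1
  have hA := admH_F0 F p HH hHS hH.le_aut
  obtain ⟨hidx, hfrat, -⟩ := facts_fam p hS F hF _ (F0_le F p HH Hg) HH hH.conj hHS hH.ess hA.op
  have hsat := F0_isSaturated p hS F hF hH
  have hinv : AutInv F (F0 F p HH Hg) := F0_autInv p hS F hF hH
  refine ⟨isNormalIn_of_autInv_fratS p F _ hF hsat (F0_le F p HH Hg) hinv hfrat, hsat, hidx, hfrat,
    hinv, hA.aut, fun R hR => hR.2.2 _ hsat hidx, fun D hD => F0_le_of_admH hD⟩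

end Cfsg.Agent.Helper3.PIX
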