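import Mathlib
import Cfsg.Agent.Lib.PIX.PIXFam

/-!
# PIX-RESAUT (S5243): restriction of `α ∈ Aut_F(S)` to a strongly closed `T`.

RECIPE. `T` strongly closed: `α ⟨t, _⟩ ∈ T` and `α⁻¹ ⟨t, _⟩ ∈ T` for `t ∈ T`
(`hT.2 T le_rfl _ (restrict of α) ..`: the map `(S.subtype.comp α.toMonoidHom).comp (inclusion hTS)`
is in `F.Hom T` by `restrict_mem F hTS ((mem_autGroup_iff F le_rfl α).mp hα)`; same for `α⁻¹`).
Build `b : MulAut T` with `toFun t := ⟨α ⟨t, _⟩, _⟩`, `invFun t := ⟨α⁻¹ ⟨t, _⟩, _⟩`; `b ∈ F.autGroup T`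
by `mem_autGroup_iff F hTS b` (its underlying map IS the restricted map above, `ext; rfl`).
Keep the statement, name, namespace exactly (you may add imports).
-/

set_option autoImplicit false

namespace Cfsg.Agent.Helper3.PIX

open Cfsg Cfsg.FusionSystem Cfsg.Agent.Helper25 Cfsg.Agent.Helper26

variable {Ω : Type*} [Group Ω] {S : Subgroup Ω}

theorem exists_restrict_aut (F : FusionSystem S) {T : Subgroup Ω} (hTS : T ≤ S)
    (hT : F.StronglyClosed T) {α : MulAut S} (hα : α ∈ F.autGroup S) :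
    ∃ β : ↥(F.autGroup T), ∀ t : ↥T,
      (((β : MulAut ↥T) t : ↥T) : Ω) = ((α ⟨(t : Ω), hTS t.2⟩ : ↥S) : Ω) := by
  have hα' : α⁻¹ ∈ F.autGroup S := inv_mem hα
  have hres : ∀ {γ : MulAut S}, γ ∈ F.autGroup S →
      (S.subtype.comp γ.toMonoidHom).comp (Subgroup.inclusion hTS) ∈ F.Hom T := by
    intro γ hγ
    exact restrict_mem F hTS ((mem_autGroup_iff F le_rfl γ).mp hγ)
  have key : ∀ {γ : MulAut S}, γ ∈ F.autGroup S → ∀ t : T,
      ((γ ⟨(t : Ω), hTS t.2⟩ : S) : Ω) ∈ T := by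
    intro γ hγ t
    exact hT.2 T le_rfl _ (hres hγ) t
  let b : MulAut T :=
    { toFun := fun t => ⟨((α ⟨(t : Ω), hTS t.2⟩ : S) : Ω), key hα t⟩
      invFun := fun t => ⟨((α⁻¹ ⟨(t : Ω), hTS t.2⟩ : S) : Ω), key hα' t⟩
      left_inv := by
        intro t
        apply Subtype.ext
        show ((α⁻¹ ⟨((α ⟨(t : Ω), hTS t.2⟩ : S) : Ω), _⟩ : S) : Ω) = (t : Ω)
        have h1 : (⟨((α ⟨(t : Ω), hTS t.2⟩ : S) : Ω), hTS (key hα t)⟩ : S) =
            α ⟨(t : Ω), hTS t.2⟩ := Subtype.ext rfl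
        rw [h1]
        simp
      right_inv := by
        intro t
        apply Subtype.ext
        show ((α ⟨((α⁻¹ ⟨(t : Ω), hTS t.2⟩ : S) : Ω), _⟩ : S) : Ω) = (t : Ω)
        have h1 : (⟨((α⁻¹ ⟨(t : Ω), hTS t.2⟩ : S) : Ω), hTS (key hα' t)⟩ : S) =
            α⁻¹ ⟨(t : Ω), hTS t.2⟩ := Subtype.ext rfl
        rw [h1]
        simp
      map_mul' := by
        intro a c
        apply Subtype.ext
        show ((α ⟨((a * c : T) : Ω), _⟩ : S) : Ω) =
          ((α ⟨(a : Ω), hTS a.2⟩ : S) : Ω) * ((α ⟨(c : Ω), hTS c.2⟩ : S) : Ω)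
        have h1 : (⟨((a * c : T) : Ω), hTS (a * c).2⟩ : S) =
            (⟨(a : Ω), hTS a.2⟩ : S) * ⟨(c : Ω), hTS c.2⟩ := Subtype.ext rfl
        rw [h1, map_mul]
        rfl }
  have hb : b ∈ F.autGroup T := by
    rw [mem_autGroup_iff F hTS b]
    have h2 : T.subtype.comp b.toMonoidHom =
        (S.subtype.comp α.toMonoidHom).comp (Subgroup.inclusion hTS) := by
      ext t
      rfl
    rw [h2]
    exact hres hα
  exact ⟨⟨b, hb⟩, fun t => rfl⟩

end Cfsg.Agent.Helper3.PIX
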