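import Mathlib
import Cfsg.Agent.Lib.PIX.PIXMain
import Cfsg.Agent.Lib.PIX.PIXRes

/-!
# PIX-EA (S5243, part (d)): an `F`-map on `Q ∈ famHH` whose restriction to `Q ⊓ T` is a map of `E`
lies in `F0`.

RECIPE (write `F0c` for `F0 F p (famHH F E) (Hchi F hTS χ)`; `hT : F.StronglyClosed T := hE.1.2.2.2.1`).
1. `F0_main p hS F hF hH` gives `FratS F F0c` and `Hchi ≤ F0c.autGroup S`. Frattini for `ψ`:
   `ψ x = α ⟨φ₀ x, _⟩` with `α ∈ Aut_F(S)`, `φ₀ ∈ F0c.Hom Q`.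
2. `hgood Q φ₀`: `φ₀ ⟨x, _⟩ = a₀ ⟨ε₀ x, _⟩` on `Q ⊓ T`, `χ a₀ = 1`, `ε₀ ∈ E.Hom (Q ⊓ T)`.
3. `exists_restrict_aut F hTS hT hα` (`PIXRes.lean`, by statement): `β : ↥(F.autGroup T)` with `β t = α t`.
4. Put `b := β * a₀ : ↥(F.autGroup T)` and `Q' := ε₀.range` (`E`-centric: it is `E`-conjugate to
   `Q ⊓ T`, which is `E`-centric by `hQ.2`; `Helper25.isCentric_of_isConj E hQ.2 ⟨ε₀, hε₀, rfl⟩`).
   For `y = ε₀ x ∈ Q'`: `b y = β (a₀ (ε₀ x)) = α (φ₀ x) = ψ x`. So the restriction of `b` to `Q'` is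
   `(ψ|_{Q ⊓ T}) ∘ ε₀⁻¹`, a map of `E` (`E.inv_mem hε₀` gives the inverse `θ ∈ E.Hom Q'`; compose with
   `hψT` by `E.comp_mem` / `Helper25.comp_mem'`; then identify the composite with the restriction of `b`
   by `ext`). `hext b Q' hQ'c _` gives `χ b = 1`, so `χ β = χ b * (χ a₀)⁻¹ = 1`.
5. Hence `α ∈ Hchi F hTS χ` (`mem_hchi`, witness `β`), so `α ∈ F0c.autGroup S`, i.e.
   `S.subtype.comp α.toMonoidHom ∈ F0c.Hom S`; `ψ = (that map) ∘ φ₀` (`F0c.comp_mem hφ₀ _ _`, then `ext`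
   with step 1).
Keep the statement, name, namespace exactly (you may add imports).
-/

set_option autoImplicit false

namespace Cfsg.Agent.Helper3.PIX

open Cfsg Cfsg.FusionSystem Cfsg.Agent.Helper25 Cfsg.Agent.Helper26

variable {Ω : Type*} [Group Ω] {S : Subgroup Ω}

theorem mem_F0_of_restrict_mem [Finite S] (p : ℕ) [Fact p.Prime] (hS : IsPGroup p S)
    (F : FusionSystem S) (hF : F.IsSaturated p) {T : Subgroup Ω} (hTS : T ≤ S)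
    (E : FusionSystem T) (hE : E.IsNormalIn F p) {Δ : Type*} [Group Δ]
    (χ : ↥(F.autGroup T) →* Δ)
    (hH : FamHyp F p (famHH F E) (Hchi F hTS χ))
    (hgood : ∀ (Q : Subgroup Ω) (φ : Q →* Ω),
      φ ∈ (F0 F p (famHH F E) (Hchi F hTS χ)).Hom Q → Good F E χ Q φ)
    (hext : ExtChi F E χ)
    {Q : Subgroup Ω} (hQ : Q ∈ famHH F E) {ψ : Q →* Ω} (hψ : ψ ∈ F.Hom Q)
    (hψT : ψ.comp (Subgroup.inclusion (inf_le_left : Q ⊓ T ≤ Q)) ∈ E.Hom (Q ⊓ T)) :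
    ψ ∈ (F0 F p (famHH F E) (Hchi F hTS χ)).Hom Q := by
  have hT : F.StronglyClosed T := hE.1.2.2.2.1
  obtain ⟨-, -, -, hfrat, -, hHg, -, -⟩ := F0_main p hS F hF hH
  obtain ⟨α, hα, φ₀, hφ₀, hψα⟩ := hfrat Q ψ hψ
  have hφ₀S : ∀ x : Q, φ₀ x ∈ S :=
    ((F0 F p (famHH F E) (Hchi F hTS χ)).le_of_mem hφ₀).2
  obtain ⟨a₀, hχa₀, ε₀, hε₀, hgd⟩ := hgood Q φ₀ hφ₀
  obtain ⟨β, hβ⟩ := exists_restrict_aut F hTS hT hα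
  have hε₀T : ∀ x : ↥(Q ⊓ T), ε₀ x ∈ T := (E.le_of_mem hε₀).2
  have hQ'c : E.IsCentric ε₀.range := isCentric_of_isConj E hQ.2 ⟨ε₀, hε₀, rfl⟩
  -- the restriction of `b = β * a₀` to `Q' = ε₀(Q ⊓ T)` is a map of `E`
  have hbQ' : (T.subtype.comp ((β * a₀ : ↥(F.autGroup T)) : MulAut ↥T).toMonoidHom).comp
      (Subgroup.inclusion hQ'c.1) ∈ E.Hom ε₀.range := by
    obtain ⟨θ, hθ, hθinv⟩ := E.inv_mem hε₀
    have h : ∀ y : ↥ε₀.range, θ y ∈ Q ⊓ T := by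
      rintro ⟨_, x, rfl⟩
      rw [hθinv x]
      exact x.2
    refine comp_mem' E hθ hψT h (fun y => ?_)
    obtain ⟨_, x, rfl⟩ := y
    have e1 : (⟨θ ⟨ε₀ x, ⟨x, rfl⟩⟩, h ⟨ε₀ x, ⟨x, rfl⟩⟩⟩ : ↥(Q ⊓ T)) = x :=
      Subtype.ext (hθinv x)
    rw [e1]
    have hM : ((T.subtype.comp ((β * a₀ : ↥(F.autGroup T)) : MulAut ↥T).toMonoidHom).comp
        (Subgroup.inclusion hQ'c.1)) ⟨ε₀ x, ⟨x, rfl⟩⟩ =
        (((β : MulAut ↥T) ((a₀ : MulAut ↥T) ⟨ε₀ x, hε₀T x⟩) : ↥T) : Ω) := rfl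
    have hR : (ψ.comp (Subgroup.inclusion (inf_le_left : Q ⊓ T ≤ Q))) x =
        ψ ⟨(x : Ω), x.2.1⟩ := rfl
    rw [hM, hR, hψα ⟨(x : Ω), x.2.1⟩ (hφ₀S _), hβ]
    have e2 : (⟨((((a₀ : MulAut ↥T) ⟨ε₀ x, hε₀T x⟩ : ↥T) : Ω)),
        hTS ((a₀ : MulAut ↥T) ⟨ε₀ x, hε₀T x⟩).2⟩ : ↥S) =
        ⟨φ₀ ⟨(x : Ω), x.2.1⟩, hφ₀S _⟩ := Subtype.ext (hgd x).symm
    rw [e2]
  have hχb : χ (β * a₀) = 1 := hext (β * a₀) ε₀.range hQ'c hbQ'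
  have hχβ : χ β = 1 := by
    have h1 : χ (β * a₀) = χ β * χ a₀ := map_mul χ β a₀
    rw [hχb, hχa₀, mul_one] at h1
    exact h1.symm
  have hαH : α ∈ Hchi F hTS χ := mem_hchi.mpr ⟨hα, β, hχβ, hβ⟩
  have hαF0 : α ∈ (F0 F p (famHH F E) (Hchi F hTS χ)).autGroup S := hHg hαH
  have hαhom : S.subtype.comp α.toMonoidHom ∈ (F0 F p (famHH F E) (Hchi F hTS χ)).Hom S :=
    (mem_autGroup_iff _ le_rfl α).mp hαF0
  refine comp_mem' _ hφ₀ hαhom hφ₀S (fun x => ?_)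
  exact hψα x (hφ₀S x)

end Cfsg.Agent.Helper3.PIX
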