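import Mathlib
import Cfsg.Agent.Lib.PIX.PIXEa
import Cfsg.Agent.Lib.Helper3.WClos2

/-!
# PIX-EB (S5243, part (d)): automorphisms in `E` of an `E`-centric, fully `F`-normalized `R ≤ T`
lie in `F0`.

RECIPE (`F0c := F0 F p (famHH F E) (Hchi F hTS χ)`).
1. `Helper25.of_fullyNormalized p hS F hF hRfn` gives `F.IsFullyCentralized R`, fully automized,
   `F.IsReceptive R`. `φ := R.subtype.comp η.toMonoidHom ∈ F.Hom R` (`hE.1.2.2.1 R` applied to
   `(mem_autGroup_iff E hRc.1 η).mp hη`), `φ.range = R`.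
2. `Helper3.WC.exists_ext_sup_centralizer F hrec hφ hr` (`Lib/Helper3/WClos2.lean`): `ψ ∈ F.Hom Q`,
   `Q := R ⊔ centralizerIn S R`, agreeing with `φ` on `R`.
   `Helper3.WC.isCentric_sup_centralizer F hfc : F.IsCentric Q`.
3. `Q ⊓ T = R`: `≥` clear (`hRc.1 : R ≤ T`); `≤`: an element `r * c` (`Subgroup.mem_sup` needs normality;
   easier: `Q ≤ R * C` as sets since `C_S(R)` normalizes `R` - use `Subgroup.mul_normal`-free argument:
   `Subgroup.sup_eq_closure_mul` / `Subgroup.mem_sup_of_normal_left`-type lemma, or prove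
   `∀ q ∈ Q, ∃ r ∈ R, ∃ c ∈ centralizerIn S R, q = r * c` by `Subgroup.closure_induction` on
   `R ⊔ C = closure (R ∪ C)` using that elements of `C` commute with `R`) with `r * c ∈ T` gives
   `c ∈ T`, so `c ∈ centralizerIn T R ≤ R` (`hRc.2 R (isConj_refl ..)`), so `r * c ∈ R`.
   Hence `E.IsCentric (Q ⊓ T)` (rewrite) and `Q ∈ famHH F E`.
4. `ψ|_{Q ⊓ T}` equals `φ ∘ inclusion (Q ⊓ T ≤ R)` (values agree by step 2), which is in `E.Hom _` by
   `restrict_mem E`. Apply `mem_F0_of_restrict_mem` (`PIXEa.lean`, by statement): `ψ ∈ F0c.Hom Q`;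
   restrict to `R ≤ Q` (`restrict_mem F0c le_sup_left`) and identify with `φ` (`ext`, step 2).
Keep the statement, name, namespace exactly (you may add imports).
-/

set_option autoImplicit false

namespace Cfsg.Agent.Helper3.PIX

open Cfsg Cfsg.FusionSystem Cfsg.Agent.Helper25 Cfsg.Agent.Helper26

variable {Ω : Type*} [Group Ω] {S : Subgroup Ω}

theorem aut_mem_F0_of_fn [Finite S] (p : ℕ) [Fact p.Prime] (hS : IsPGroup p S)
    (F : FusionSystem S) (hF : F.IsSaturated p) {T : Subgroup Ω} (hTS : T ≤ S)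
    (E : FusionSystem T) (hE : E.IsNormalIn F p) {Δ : Type*} [Group Δ]
    (χ : ↥(F.autGroup T) →* Δ)
    (hH : FamHyp F p (famHH F E) (Hchi F hTS χ))
    (hgood : ∀ (Q : Subgroup Ω) (φ : Q →* Ω),
      φ ∈ (F0 F p (famHH F E) (Hchi F hTS χ)).Hom Q → Good F E χ Q φ)
    (hext : ExtChi F E χ)
    {R : Subgroup Ω} (hRc : E.IsCentric R) (hRfn : F.IsFullyNormalized R)
    {η : MulAut R} (hη : η ∈ E.autGroup R) :
    η ∈ (F0 F p (famHH F E) (Hchi F hTS χ)).autGroup R := by
  obtain ⟨hfc, -, hrec⟩ := of_fullyNormalized p hS F hF hRfn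
  have hRT : R ≤ T := hRc.1
  have hRS : R ≤ S := hRT.trans hTS
  have hφE : R.subtype.comp η.toMonoidHom ∈ E.Hom R := (mem_autGroup_iff E hRT η).mp hη
  have hφF : R.subtype.comp η.toMonoidHom ∈ F.Hom R := hE.1.2.2.1 R hφE
  have hr : (R.subtype.comp η.toMonoidHom).range = R := by
    ext y
    constructor
    · rintro ⟨x, rfl⟩
      exact (η x).2
    · intro hy
      refine ⟨η.symm ⟨y, hy⟩, ?_⟩
      show ((η (η.symm ⟨y, hy⟩) : R) : Ω) = y
      rw [MulEquiv.apply_symm_apply]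
  obtain ⟨ψ, hψ, hψR, -⟩ := Cfsg.Agent.Helper3.WC.exists_ext_sup_centralizer F hrec hφF hr
  have hQc : F.IsCentric (R ⊔ centralizerIn S R) :=
    Cfsg.Agent.Helper3.WC.isCentric_sup_centralizer F hfc
  -- `Q ⊓ T = R`
  have hQT : (R ⊔ centralizerIn S R) ⊓ T = R := by
    apply le_antisymm
    · intro q hq
      obtain ⟨hqQ, hqT⟩ := hq
      have hCN : centralizerIn S R ≤ Subgroup.normalizer (R : Set Ω) :=
        fun c hc => Subgroup.centralizer_le_normalizer _ hc.2
      have hset := Subgroup.coe_mul_of_right_le_normalizer_left R (centralizerIn S R) hCN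
      have hq' : q ∈ ((R ⊔ centralizerIn S R : Subgroup Ω) : Set Ω) := hqQ
      rw [hset] at hq'
      obtain ⟨r, hr', c, hc, rfl⟩ := hq'
      have hcT : c ∈ T := by
        have : c = r⁻¹ * (r * c) := by group
        rw [this]
        exact T.mul_mem (T.inv_mem (hRT hr')) hqT
      have hcR : c ∈ R := hRc.2 R (isConj_refl E hRT) ⟨hcT, hc.2⟩
      exact R.mul_mem hr' hcR
    · exact le_inf le_sup_left hRT
  have hQfam : (R ⊔ centralizerIn S R) ∈ famHH F E := by
    refine ⟨hQc, ?_⟩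
    rw [hQT]
    exact hRc
  have hψT : ψ.comp (Subgroup.inclusion
      (inf_le_left : (R ⊔ centralizerIn S R) ⊓ T ≤ R ⊔ centralizerIn S R)) ∈
      E.Hom ((R ⊔ centralizerIn S R) ⊓ T) := by
    have h1 := restrict_mem E hQT.le hφE
    have heq : ψ.comp (Subgroup.inclusion
        (inf_le_left : (R ⊔ centralizerIn S R) ⊓ T ≤ R ⊔ centralizerIn S R)) =
        (R.subtype.comp η.toMonoidHom).comp (Subgroup.inclusion hQT.le) := by
      ext x
      exact hψR (Subgroup.inclusion hQT.le x)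
    rw [heq]
    exact h1
  have hψ0 := mem_F0_of_restrict_mem p hS F hF hTS E hE χ hH hgood hext hQfam hψ hψT
  have hψ0R := restrict_mem (F0 F p (famHH F E) (Hchi F hTS χ))
    (le_sup_left : R ≤ R ⊔ centralizerIn S R) hψ0
  rw [mem_autGroup_iff _ hRS η]
  have heq2 : R.subtype.comp η.toMonoidHom =
      ψ.comp (Subgroup.inclusion (le_sup_left : R ≤ R ⊔ centralizerIn S R)) := by
    ext x
    exact (hψR x).symm
  rw [heq2]
  exact hψ0R

end Cfsg.Agent.Helper3.PIX
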