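import Mathlib
import Cfsg.Agent.Lib.PIX.PIXDefs
import Cfsg.Agent.Lib.Helper25.FusionInvariant

/-!
# PIX-EC (S5243, part (d), generic): a subsystem `D ≤ F` over `S` with the Frattini property
`FratS F D` and `AutInv F D` is invariant under conjugation by every isomorphism of `F`.

RECIPE. `κ x = α ⟨κ₀ x, _⟩` with `α ∈ Aut_F(S)`, `κ₀ ∈ D.Hom R` (`hfr R κ hκ`). Let `R₀ := κ₀.range`,
so `κ.range = α R₀` (as sets: `(R₀.subgroupOf S).map (S.subtype.comp α.toMonoidHom)`, see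
`Helper25.mem_map_aut_iff`). Apply `hinv` (`AutInv`, `Lib/Helper25/FusionInvariant.lean` l.51) to
`α⁻¹ ∈ Aut_F(S)` and the `D`-map `ξ := κ.range.subtype.comp η'.toMonoidHom ∈ D.Hom κ.range`: it gives a
`D`-map `ξ₀` on `α⁻¹(κ.range)` (which is `R₀` as a set; restrict along `R₀ ≤ _` with `restrict_mem`)
with `ξ₀ (κ₀ x) = α⁻¹ (η' (κ x)) = α⁻¹ (κ (η x)) = κ₀ (η x)`. Then
`R.subtype ∘ η = κ₀⁻¹ ∘ ξ₀ ∘ κ₀` (`D.inv_mem`, `D.comp_mem`), so `η ∈ D.autGroup R`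
(`mem_autGroup_iff D hR`). Keep the statement, name, namespace exactly (you may add imports).
-/

set_option autoImplicit false

namespace Cfsg.Agent.Helper3.PIX

open Cfsg Cfsg.FusionSystem Cfsg.Agent.Helper25 Cfsg.Agent.Helper26

variable {Ω : Type*} [Group Ω] {S : Subgroup Ω}

theorem aut_mem_of_conj_mem (F D : FusionSystem S) (hDF : D.IsSubsystemOf F) (hfr : FratS F D)
    (hinv : AutInv F D) {R : Subgroup Ω} {κ : R →* Ω} (hκ : κ ∈ F.Hom R) (η : MulAut R)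
    (η' : MulAut κ.range) (hη' : η' ∈ D.autGroup κ.range)
    (hcomm : ∀ x : R, ((η' ⟨κ x, ⟨x, rfl⟩⟩ : κ.range) : Ω) = κ (η x)) :
    η ∈ D.autGroup R := by
  obtain ⟨hRS, hκS⟩ := F.le_of_mem hκ
  have hrange : κ.range ≤ S := by
    rintro _ ⟨x, rfl⟩
    exact hκS x
  obtain ⟨α, hα, κ₀, hκ₀, hκ₀v⟩ := hfr R κ hκ
  have hκ₀S := (D.le_of_mem hκ₀).2
  have hξ : κ.range.subtype.comp η'.toMonoidHom ∈ D.Hom κ.range :=
    (mem_autGroup_iff D hrange η').mp hη'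
  obtain ⟨χ, hχ, hχv⟩ := hinv (Subgroup.inv_mem _ hα) hrange hξ
  -- `κ₀ x = α⁻¹ (κ x)`
  have hκ₀eq : ∀ x : R, κ₀ x = ((α⁻¹ ⟨κ x, hκS x⟩ : S) : Ω) := by
    intro x
    have e : (⟨κ x, hκS x⟩ : S) = α ⟨κ₀ x, hκ₀S x⟩ := Subtype.ext (hκ₀v x (hκ₀S x))
    rw [e]
    simp
  have hmem : ∀ x : R, κ₀ x ∈
      (κ.range.subgroupOf S).map (S.subtype.comp (α⁻¹ : MulAut S).toMonoidHom) := by
    intro x
    rw [hκ₀eq]
    exact mem_map_aut hrange α⁻¹ ⟨κ x, ⟨x, rfl⟩⟩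
  have hθ₁ : χ.comp (κ₀.codRestrict _ hmem) ∈ D.Hom R := D.comp_mem hκ₀ hχ hmem
  have hθ₁v : ∀ x : R, (χ.comp (κ₀.codRestrict _ hmem)) x = κ₀ (η x) := by
    intro x
    show χ ⟨κ₀ x, hmem x⟩ = κ₀ (η x)
    have h1 := hχv ⟨κ x, ⟨x, rfl⟩⟩
    have h2 : χ ⟨κ₀ x, hmem x⟩ = χ ⟨((α⁻¹ ⟨κ x, hκS x⟩ : S) : Ω),
        mem_map_aut hrange α⁻¹ ⟨κ x, ⟨x, rfl⟩⟩⟩ := hom_congr_val χ _ _ (hκ₀eq x)
    refine h2.trans (h1.trans ?_)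
    rw [hκ₀eq (η x)]
    exact congrArg (fun s : S => ((α⁻¹ s : S) : Ω)) (Subtype.ext (hcomm x))
  obtain ⟨ψ, hψ, hψv⟩ := D.inv_mem hκ₀
  have hmem2 : ∀ x : R, (χ.comp (κ₀.codRestrict _ hmem)) x ∈ κ₀.range := by
    intro x
    rw [hθ₁v]
    exact ⟨η x, rfl⟩
  have hθ₂ := D.comp_mem hθ₁ hψ hmem2
  rw [mem_autGroup_iff D hRS]
  have hfin : R.subtype.comp η.toMonoidHom =
      ψ.comp ((χ.comp (κ₀.codRestrict _ hmem)).codRestrict κ₀.range hmem2) := by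
    ext x
    show ((η x : R) : Ω) = ψ ⟨(χ.comp (κ₀.codRestrict _ hmem)) x, hmem2 x⟩
    have e2 : ψ ⟨(χ.comp (κ₀.codRestrict _ hmem)) x, hmem2 x⟩ = ψ ⟨κ₀ (η x), ⟨η x, rfl⟩⟩ :=
      hom_congr_val ψ _ _ (hθ₁v x)
    rw [e2, hψv]
  rw [hfin]
  exact hθ₂

end Cfsg.Agent.Helper3.PIX
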