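import Mathlib
import Cfsg.Agent.Lib.PIX.PIXEb
import Cfsg.Agent.Lib.PIX.PIXEc
import Cfsg.Agent.Lib.CSE.CSECentric

/-!
# PIX-ED (S5243, part (d)): automorphisms in `E` of ANY `E`-centric `R ≤ T` lie in `F0`.

RECIPE (`F0c := F0 F p (famHH F E) (Hchi F hTS χ)`, `hinvE : E.IsInvariantIn F := hE.1.2.2`).
1. `Helper25.exists_isConj_fullyNormalized F (hRc.1.trans hTS)`: `κ ∈ F.Hom R` with `κ.range` fully
   `F`-normalized; `κ.range ≤ T` (`T` strongly closed, `hinvE.2.1`).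
2. `κ.range` is `E`-centric: for an `E`-conjugate `R''` of `κ.range`, `R''` is `F`-conjugate to `R`
   (`isConj_trans`, `E ≤ F`), so `CSE.centralizerIn_le_of_isConj p F E hE hRc.1 hRc _ : C_T(R'') ≤ R''`
   (`Lib/CSE/CSECentric.lean`).
3. Transport `η` to `η' : MulAut κ.range`, `η' := MulAut.congr (Helper25.homEquiv F hκ) η`
   (`η' (κ x) = κ (η x)`). `η' ∈ E.autGroup κ.range`: Frattini for `E` in `F` (`hinvE.2.2.2 R hRc.1 κ hκ`):
   `κ x = β ⟨ε x, _⟩`, `β ∈ Aut_F(T)`, `ε ∈ E.Hom R`; then `ε η ε⁻¹ ∈ Aut_E(ε R)` and its `β`-conjugate is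
   in `E` by the invariance clause `hinvE.2.2.1` (or `Helper25.StrongInv`/`AutInv` forms in
   `Lib/Helper25/FusionInvariant.lean`); identify by `ext`.
4. `aut_mem_F0_of_fn` (`PIXEb.lean`, by statement) gives `η' ∈ F0c.autGroup κ.range`.
5. `aut_mem_of_conj_mem F F0c (F0_le ..) hfrat hautinv hκ η η' _ _` (`PIXEc.lean`, by statement) with
   `hfrat`, `hautinv` from `F0_main p hS F hF hH` gives `η ∈ F0c.autGroup R`.
Keep the statement, name, namespace exactly (you may add imports).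
-/

set_option autoImplicit false

namespace Cfsg.Agent.Helper3.PIX

open Cfsg Cfsg.FusionSystem Cfsg.Agent.Helper25 Cfsg.Agent.Helper26

variable {Ω : Type*} [Group Ω] {S : Subgroup Ω}

/-- membership of a map of the system transported along an equality of sources -/
theorem pixed_hom_transport {T : Subgroup Ω} (E : FusionSystem T) {A B : Subgroup Ω} (h : A = B)
    {χ : A →* Ω} (hχ : χ ∈ E.Hom A) (χ' : B →* Ω)
    (hc : ∀ (b : B) (hb : (b : Ω) ∈ A), χ' b = χ ⟨b, hb⟩) : χ' ∈ E.Hom B := by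
  subst h
  have e : χ' = χ := MonoidHom.ext fun b => hc b b.2
  rw [e]
  exact hχ

theorem aut_mem_F0 [Finite S] (p : ℕ) [Fact p.Prime] (hS : IsPGroup p S)
    (F : FusionSystem S) (hF : F.IsSaturated p) {T : Subgroup Ω} (hTS : T ≤ S)
    (E : FusionSystem T) (hE : E.IsNormalIn F p) {Δ : Type*} [Group Δ]
    (χ : ↥(F.autGroup T) →* Δ)
    (hH : FamHyp F p (famHH F E) (Hchi F hTS χ))
    (hgood : ∀ (Q : Subgroup Ω) (φ : Q →* Ω),
      φ ∈ (F0 F p (famHH F E) (Hchi F hTS χ)).Hom Q → Good F E χ Q φ)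
    (hext : ExtChi F E χ)
    {R : Subgroup Ω} (hRc : E.IsCentric R) {η : MulAut R} (hη : η ∈ E.autGroup R) :
    η ∈ (F0 F p (famHH F E) (Hchi F hTS χ)).autGroup R := by
  have hinvE : E.IsInvariantIn F := hE.1.2.2
  have hEF : E.IsSubsystemOf F := hinvE.1
  have hTcl : F.StronglyClosed T := hinvE.2.1
  have hRT : R ≤ T := hRc.1
  have hRS : R ≤ S := hRT.trans hTS
  obtain ⟨Q, ⟨κ, hκ, rfl⟩, hfn⟩ := exists_isConj_fullyNormalized F hRS
  -- `κ.range ≤ T`
  have hκT : κ.range ≤ T := by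
    rintro _ ⟨x, rfl⟩
    exact hTcl.2 R hRT κ hκ x
  -- `κ.range` is `E`-centric
  have hκc : E.IsCentric κ.range := by
    refine ⟨hκT, fun R'' hR'' => ?_⟩
    have h1 : F.IsConj R κ.range := ⟨κ, hκ, rfl⟩
    have h2 : F.IsConj κ.range R'' := by
      obtain ⟨ψ, hψ, hr⟩ := hR''
      exact ⟨ψ, hEF _ hψ, hr⟩
    exact Cfsg.Agent.Helper3.CSE.centralizerIn_le_of_isConj p F E hE hRT hRc (isConj_trans F h1 h2)
  -- the transported automorphism
  obtain ⟨η', hη'def⟩ : ∃ η' : MulAut κ.range, η' = MulAut.congr (homEquiv F hκ) η := ⟨_, rfl⟩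
  have hcomm : ∀ x : R, ((η' ⟨κ x, ⟨x, rfl⟩⟩ : κ.range) : Ω) = κ (η x) := by
    intro x
    have e1 : (⟨κ x, ⟨x, rfl⟩⟩ : κ.range) = homEquiv F hκ x := rfl
    rw [e1, hη'def]
    show ((homEquiv F hκ (η ((homEquiv F hκ).symm (homEquiv F hκ x))) : κ.range) : Ω) = _
    rw [MulEquiv.symm_apply_apply]
    rfl
  have hη'E : η' ∈ E.autGroup κ.range := by
    rw [mem_autGroup_iff E hκT]
    have hSI := strongInv_of_isInvariantIn hinvE
    have hφ : R.subtype.comp η.toMonoidHom ∈ E.Hom R := (mem_autGroup_iff E hRT η).1 hη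
    obtain ⟨χ', hχ', hχv⟩ := hSI R R le_rfl hRT (R.subtype.comp η.toMonoidHom) hφ
      (fun x => (η x).2) κ hκ
    have hX : (R.subgroupOf R).map κ = κ.range := by
      rw [Subgroup.subgroupOf_self, MonoidHom.range_eq_map]
    refine pixed_hom_transport E hX hχ' _ (fun b hb => ?_)
    obtain ⟨b, x, rfl⟩ := b
    have h1 := hχv x (by
      have : κ (Subgroup.inclusion (le_refl R) x) = κ x := by
        congr 1
      rw [this]
      exact hb)
    have h2 : χ' ⟨κ x, hb⟩ = κ (η x) := by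
      refine Eq.trans ?_ (h1.trans ?_)
      · apply hom_congr_val
        congr 1
      · rfl
    rw [h2]
    exact hcomm x
  -- `η' ∈ F0`
  have hη'F0 := aut_mem_F0_of_fn p hS F hF hTS E hE χ hH hgood hext hκc hfn hη'E
  -- back to `R`
  obtain ⟨-, -, -, hfrat, hautinv, -⟩ := F0_main p hS F hF hH
  exact aut_mem_of_conj_mem F _ (F0_le F p _ _) hfrat hautinv hκ η η' hη'F0 hcomm

end Cfsg.Agent.Helper3.PIX
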