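import Mathlib
import Cfsg.Agent.Lib.PIX.PIXEd
import Cfsg.Agent.Lib.Helper25.FusionAlperin2

/-!
# S5243, part (d): `E ≤ F0` (assembly, helper3): Alperin induction in `E`.
-/

set_option autoImplicit false

namespace Cfsg.Agent.Helper3.PIX

open Cfsg Cfsg.FusionSystem Cfsg.Agent.Helper25 Cfsg.Agent.Helper26

variable {Ω : Type*} [Group Ω] {S : Subgroup Ω}

theorem E_le_F0 [Finite S] (p : ℕ) [Fact p.Prime] (hS : IsPGroup p S)
    (F : FusionSystem S) (hF : F.IsSaturated p) {T : Subgroup Ω} (hTS : T ≤ S)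
    (E : FusionSystem T) (hE : E.IsNormalIn F p) {Δ : Type*} [Group Δ]
    (χ : ↥(F.autGroup T) →* Δ)
    (hH : FamHyp F p (famHH F E) (Hchi F hTS χ))
    (hgood : ∀ (Q : Subgroup Ω) (φ : Q →* Ω),
      φ ∈ (F0 F p (famHH F E) (Hchi F hTS χ)).Hom Q → Good F E χ Q φ)
    (hext : ExtChi F E χ) :
    E.IsSubsystemOf (F0 F p (famHH F E) (Hchi F hTS χ)) := by
  haveI : Finite T := finite_of_le_finite hTS
  have hT : IsPGroup p T := hS.to_le hTS
  intro P φ hφ
  refine alperin_induction p hT E hE.1.1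
    (fun P φ => φ ∈ (F0 F p (famHH F E) (Hchi F hTS χ)).Hom P)
    (fun {P g} hP hg => (F0 F p (famHH F E) (Hchi F hTS χ)).conj_mem (hP.trans hTS) (hTS hg))
    (fun {P Q φ ψ} _ _ h1 h2 h => (F0 F p (famHH F E) (Hchi F hTS χ)).comp_mem h1 h2 h)
    ?_ ?_ hφ
  · intro P φ _ h1 ψ _ hinv
    obtain ⟨ψ', hψ', hinv'⟩ := (F0 F p (famHH F E) (Hchi F hTS χ)).inv_mem h1
    have : ψ = ψ' := by
      ext ⟨_, x, rfl⟩
      rw [hinv, hinv']
    rw [this]; exact hψ'
  · intro P hP α hα
    have hPc : E.IsCentric P := by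
      rcases hP with rfl | hP
      · refine ⟨le_rfl, ?_⟩
        rintro Q ⟨ψ, hψ, rfl⟩
        intro c hc
        have hcT : c ∈ P := (mem_centralizerIn.mp hc).1
        -- `ψ` is onto `P` by cardinality
        have hle : ψ.range ≤ P := by
          rintro _ ⟨x, rfl⟩; exact (E.le_of_mem hψ).2 x
        have heq : ψ.range = P := by
          apply Subgroup.eq_of_le_of_card_ge hle
          exact le_of_eq (Nat.card_congr (homEquiv E hψ).toEquiv)
        rw [heq]; exact hcT
      · exact hP.1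
    have := aut_mem_F0 p hS F hF hTS E hE χ hH hgood hext hPc hα
    exact (mem_autGroup_iff _ (hPc.1.trans hTS) α).mp this

end Cfsg.Agent.Helper3.PIX
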