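import Mathlib
import Cfsg.Agent.Lib.PIX.PIXChi
import Cfsg.Agent.Lib.CSE.CSEGen
import Cfsg.Agent.Lib.CSE.CSEExtN
import Cfsg.Agent.Lib.Helper25.FusionInvariant
import Cfsg.Agent.Lib.Helper25.FusionSat3
import Cfsg.Agent.Lib.Helper25.FusionAut

/-!
# PIX-PROPER (S5243; done by helper15): `Hchi` is a PROPER subgroup of `Aut_F(S)`.

RECIPE. `A := F.autGroup T` (finite). `T` is strongly closed, hence normal in `S`, hence fully
`F`-normalized (`normalizerIn S T = S` has the largest possible order), so fully automized: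
`Aut_S(T) = autInducedBy S T` is a Sylow `p`-subgroup of `A` (`Helper25.of_fullyNormalized`,
`Helper25.isFullyAutomized_iff`). Suppose (for contradiction) every `ν ∈ A` normalizing `Aut_S(T)` has
`χ ν = 1`. Apply `CSE.gen_induction p P χ.ker` (`Lib/CSE/CSEGen.lean`) with `P` the Sylow subgroup of
`A` given by `Aut_S(T)`: `P ≤ ker χ` because `Δ` has order prime to `p` (an element of `p`-power order
maps to an element whose order divides both `p^k` and `|Δ|`); `N_A(P) ≤ ker χ` by the assumption; the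
normal closure of `P` lies in the normal subgroup `ker χ`. So `ker χ = ⊤`, contradicting `hχ` and
`Nontrivial Δ`. Hence some `ν ∈ A` normalizes `Aut_S(T)` with `χ ν ≠ 1`.
`CSE.exists_ext_normalizerIn p hS F hF (R := T) hTfn ν hν hnorm` (`Lib/CSE/CSEExtN.lean`, with its `T := S`,
`E := F`) extends `ν` to a map `νh` of `F` on `normalizerIn S T`; restrict it to `S ≤ normalizerIn S T`
(`restrict_mem`) to get `ψ ∈ F.Hom S`; it is injective with values in `S`, so (finite) it is an
automorphism `a ∈ F.autGroup S` (cf. `Helper25.homEquiv`/`mem_autGroup_iff`; or build `a` with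
`MulEquiv.ofBijective`). If `a ∈ Hchi` with witness `β`, then `β t = a t = ν t` for all `t`, so
`β = ν` (`Subtype.ext`, `MulEquiv.ext`) and `χ ν = 1`: contradiction.
Keep the statement, name, namespace exactly (you may add imports).
-/

set_option autoImplicit false

namespace Cfsg.Agent.Helper3.PIX

open Cfsg Cfsg.FusionSystem Cfsg.Agent.Helper25 Cfsg.Agent.Helper26

variable {Ω : Type*} [Group Ω] {S : Subgroup Ω}

/-- an element of `p`-power order in a group of order prime to `p` is trivial -/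
theorem pixproper_eq_one {Δ : Type*} [Group Δ] [Finite Δ] {p : ℕ} (hΔ : (Nat.card Δ).Coprime p)
    (d : Δ) (k : ℕ) (h : d ^ (p ^ k) = 1) : d = 1 := by
  have h1 : orderOf d ∣ p ^ k := orderOf_dvd_of_pow_eq_one h
  have h2 : orderOf d ∣ Nat.card Δ := orderOf_dvd_natCard d
  have h3 : (orderOf d).Coprime (p ^ k) := Nat.Coprime.coprime_dvd_left h2 (hΔ.pow_right k)
  have h4 : orderOf d = 1 := Nat.Coprime.eq_one_of_dvd h3 h1
  exact orderOf_eq_one_iff.1 h4

theorem exists_not_mem_hchi [Finite S] (p : ℕ) [Fact p.Prime] (hS : IsPGroup p S)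
    (F : FusionSystem S) (hF : F.IsSaturated p) {T : Subgroup Ω} (hTS : T ≤ S)
    (hT : F.StronglyClosed T) {Δ : Type*} [Group Δ] [Finite Δ] [Nontrivial Δ]
    (hΔ : (Nat.card Δ).Coprime p) (χ : ↥(F.autGroup T) →* Δ) (hχ : Function.Surjective χ) :
    ∃ a ∈ F.autGroup S, a ∉ Hchi F hTS χ := by
  classical
  have hfinT : Finite T := finite_of_le_finite hTS
  -- `T` is fully normalized
  have hNS : normalizerIn S T = S :=
    le_antisymm normalizerIn_le (fun g hg => ⟨hg, mem_normalizer_of_stronglyClosed hT hg⟩)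
  have hTfn : F.IsFullyNormalized T := by
    refine ⟨hTS, fun Q _ => ?_⟩
    rw [hNS]
    exact Subgroup.card_le_of_le normalizerIn_le
  obtain ⟨-, hfa, -⟩ := of_fullyNormalized p hS F hF hTfn
  obtain ⟨-, R, hR⟩ := hfa
  have hfinA : Finite (MulAut T) :=
    Finite.of_injective (fun e : MulAut T => (e : T → T)) (fun a b h => MulEquiv.ext (congrFun h))
  -- Part A: some `ν ∈ N_A(Aut_S(T))` has `χ ν ≠ 1`
  have hA : ∃ ν : ↥(F.autGroup T), ν ∈ Subgroup.normalizer
      ((R : Subgroup ↥(F.autGroup T)) : Set ↥(F.autGroup T)) ∧ χ ν ≠ 1 := by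
    by_contra hcon
    push Not at hcon
    have hRker : (R : Subgroup ↥(F.autGroup T)) ≤ χ.ker := by
      intro x hx
      obtain ⟨k, hk⟩ := R.isPGroup' ⟨x, hx⟩
      rw [MonoidHom.mem_ker]
      apply pixproper_eq_one hΔ (χ x) k
      rw [← map_pow]
      have h1 : x ^ p ^ k = 1 := by simpa using congrArg Subtype.val hk
      rw [h1, map_one]
    have hker : χ.ker = ⊤ := by
      apply Cfsg.Agent.Helper3.CSE.gen_induction p R χ.ker hRker
      · intro x hx
        exact MonoidHom.mem_ker.2 (hcon x hx)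
      · intro g hg _
        exact (Subgroup.normalClosure_le_normal hRker) hg
    obtain ⟨d, hd⟩ := exists_ne (1 : Δ)
    obtain ⟨x, rfl⟩ := hχ d
    have hx : x ∈ χ.ker := by rw [hker]; trivial
    exact hd (MonoidHom.mem_ker.1 hx)
  obtain ⟨ν, hνN, hνχ⟩ := hA
  have hnorm : ∀ α ∈ autInducedBy S T,
      (ν : MulAut T) * α * (ν : MulAut T)⁻¹ ∈ autInducedBy S T := by
    intro α hα
    have hαA : α ∈ F.autGroup T := autInducedBy_le_autGroup F hTS hα
    have h1 : (⟨α, hαA⟩ : ↥(F.autGroup T)) ∈ (R : Subgroup ↥(F.autGroup T)) := by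
      rw [hR, Subgroup.mem_subgroupOf]
      exact hα
    have h2 := (Subgroup.mem_normalizer_iff.1 hνN ⟨α, hαA⟩).1 h1
    rw [hR, Subgroup.mem_subgroupOf] at h2
    exact h2
  -- Part B: extend `ν` to `S`
  obtain ⟨νh, hνh, hνhe⟩ := Cfsg.Agent.Helper3.CSE.exists_ext_normalizerIn p hS F hF hTfn
    (ν : MulAut T) ν.2 hnorm
  have hSN : S ≤ normalizerIn S T := hNS.ge
  have hψ : νh.comp (Subgroup.inclusion hSN) ∈ F.Hom S := restrict_mem F hSN hνh
  have hψS : ∀ s : S, (νh.comp (Subgroup.inclusion hSN)) s ∈ S := (F.le_of_mem hψ).2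
  have hinj : Function.Injective ((νh.comp (Subgroup.inclusion hSN)).codRestrict S hψS) := by
    intro x y hxy
    apply F.injective_of_mem hψ
    exact congrArg Subtype.val hxy
  have hbij := Finite.injective_iff_bijective.1 hinj
  have haA : (MulEquiv.ofBijective _ hbij : MulAut S) ∈ F.autGroup S := by
    rw [mem_autGroup_iff F le_rfl]
    have h1 : S.subtype.comp (MulEquiv.ofBijective _ hbij : MulAut S).toMonoidHom =
        νh.comp (Subgroup.inclusion hSN) := by
      ext x
      rfl
    rw [h1]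
    exact hψ
  refine ⟨MulEquiv.ofBijective _ hbij, haA, ?_⟩
  intro hmem
  obtain ⟨-, β, hβ1, hβ2⟩ := mem_hchi.1 hmem
  have hβν : β = ν := by
    apply Subtype.ext
    apply MulEquiv.ext
    intro t
    apply Subtype.ext
    rw [hβ2 t]
    exact hνhe t t.2 (hSN (hTS t.2))
  rw [hβν] at hβ1
  exact hνχ hβ1

end Cfsg.Agent.Helper3.PIX
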