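import Mathlib
import Cfsg.Agent.Lib.PIX.PIXEMain
import Cfsg.Agent.Lib.PIX.PIXProper

/-!
# S5243: final assembly from the two halves (helper3).

The SPECIFIC half (helper22, `Lib/PIY`) supplies: `hH : FamHyp F p (famHH F E) (Hchi F hTS χ)`,
`hext : ExtChi F E χ`, and a system `Dchi` that is `AdmH`, all of whose maps are `Good`, with
`Aut_Dchi(S) ≤ Hchi`.
-/

set_option autoImplicit false

namespace Cfsg.Agent.Helper3.PIX

open Cfsg Cfsg.FusionSystem Cfsg.Agent.Helper25 Cfsg.Agent.Helper26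

variable {Ω : Type*} [Group Ω] {S : Subgroup Ω}

theorem s5243_of_hyps [Finite S] (p : ℕ) [Fact p.Prime] (hS : IsPGroup p S)
    (F : FusionSystem S) (hF : F.IsSaturated p) {T : Subgroup Ω} (hTS : T ≤ S)
    (E : FusionSystem T) (hE : E.IsNormalIn F p) {Δ : Type*} [Group Δ] [Finite Δ] [Nontrivial Δ]
    (hΔ : (Nat.card Δ).Coprime p) (χ : ↥(F.autGroup T) →* Δ) (hχ : Function.Surjective χ)
    (hH : FamHyp F p (famHH F E) (Hchi F hTS χ))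
    (hext : ExtChi F E χ)
    (Dchi : FusionSystem S) (hD : AdmH F p (famHH F E) (Hchi F hTS χ) Dchi)
    (hDgood : ∀ (Q : Subgroup Ω) (φ : Q →* Ω), φ ∈ Dchi.Hom Q → Good F E χ Q φ)
    (hDaut : Dchi.autGroup S ≤ Hchi F hTS χ) :
    ∃ F₀ : Cfsg.FusionSystem S, F₀.IsNormalIn F p ∧ ¬ (∀ P : Subgroup Ω, F₀.Hom P = F.Hom P) ∧
      E.IsSubsystemOf F₀ ∧
      (∀ α : MulAut ↥S, α ∈ F₀.autGroup S ↔ α ∈ F.autGroup S ∧ ∃ β : ↥(F.autGroup T), χ β = 1 ∧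
        ∀ t : ↥T, (((β : MulAut ↥T) t : ↥T) : Ω) = ((α ⟨(t : Ω), hTS t.2⟩ : ↥S) : Ω)) ∧
      ∀ R : Cfsg.FusionSystem S, F.IsPPrimeResidual p R → R.IsSubsystemOf F₀ := by
  obtain ⟨hnorm, -, -, -, -, hHg, hres, hmin⟩ := F0_main p hS F hF hH
  have hle : (F0 F p (famHH F E) (Hchi F hTS χ)).IsSubsystemOf Dchi := hmin Dchi hD
  have hgood : ∀ (Q : Subgroup Ω) (φ : Q →* Ω),
      φ ∈ (F0 F p (famHH F E) (Hchi F hTS χ)).Hom Q → Good F E χ Q φ :=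
    fun Q φ h => hDgood Q φ (hle Q h)
  have haut : (F0 F p (famHH F E) (Hchi F hTS χ)).autGroup S ≤ Hchi F hTS χ := by
    intro α hα
    apply hDaut
    rw [mem_autGroup_iff _ le_rfl] at hα ⊢
    exact hle S hα
  refine ⟨F0 F p (famHH F E) (Hchi F hTS χ), hnorm, ?_, E_le_F0 p hS F hF hTS E hE χ hH hgood hext,
    fun α => ⟨fun h => mem_hchi.mp (haut h), fun h => hHg (mem_hchi.mpr h)⟩, hres⟩
  intro hall
  obtain ⟨a, ha, hna⟩ := exists_not_mem_hchi p hS F hF hTS hE.1.2.2.2.1 hΔ χ hχ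
  apply hna
  apply haut
  rw [mem_autGroup_iff _ le_rfl] at ha ⊢
  rw [hall S]; exact ha

end Cfsg.Agent.Helper3.PIX
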