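import Mathlib
import Cfsg.Agent.Lib.PIX.PIXFam
import Cfsg.Agent.Lib.OPE.OPEStar
import Cfsg.Agent.Lib.OPE.OPEPow

/-!
# PIX-XCHI (S5243): `ExtChi F E χ` for `E` normal in `F`, `Δ` of order prime to `p`, `Aut_E(T) ≤ ker χ`.

RECIPE. Unfold `ExtChi` (`PIXFam.lean`); the restriction in its hypothesis is
`Helper25.OPE.resAut (b : MulAut T) Q hQ.1` by `rfl` (`Lib/OPE/OPEDefs.lean`).
Let `hinv : E.IsInvariantIn F := hE.1.2.2`, `hEs : E.IsSaturated p := hE.1.1`, `a₀ := (b : MulAut T)`,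
`ha₀ : a₀ ∈ F.autGroup T := b.2`.
1. POWERS: `OPE.pow_decomp F hTS E hinv ha₀ hQ.1 hres (1 : MulAut Q) (fun g => rfl) i` gives
   `Ε ∈ E.Hom Q` with `Ε ((1 ^ i) g) = resAut (a₀ ^ i) Q _ g`; `one_pow`, so `Ε = resAut (a₀ ^ i) Q _`
   (`MonoidHom.ext`) and `resAut (a₀ ^ i) Q _ ∈ E.Hom Q` for every `i`.
2. `Aut_F(T)` is finite (`T` finite: `MulAut T` is finite), so `n := orderOf a₀ > 0`. Put
   `k := n.factorization p`, `m := n / p ^ k` (`Nat.ordCompl`; `Nat.coprime_ordCompl (Fact.out) hn.ne'`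
   gives `m.Coprime p`, and `Nat.ordProj_mul_ordCompl_eq_self n p : p ^ k * m = n`).
   `a := a₀ ^ (p ^ k)` satisfies `a ^ m = a₀ ^ n = 1` (`← pow_mul`, `pow_orderOf_eq_one`),
   `a ∈ F.autGroup T`, and `resAut a Q _ ∈ E.Hom Q` by step 1.
3. `OPE.star p hS F hTS E hEs hinv ha hm ham hQ hresa : a ∈ E.autGroup T` (`Lib/OPE/OPEStar.lean`).
   So `⟨a, _⟩ = b ^ (p ^ k)` lies in `(E.autGroup T).subgroupOf (F.autGroup T) ≤ χ.ker`
   (`Subgroup.mem_subgroupOf`, `Subtype.ext`/`SubgroupClass.coe_pow`), hence `(χ b) ^ (p ^ k) = 1`.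
4. `(χ b) ^ Nat.card Δ = 1` (`pow_card_eq_one'`), and `(p ^ k).Coprime (Nat.card Δ)`
   (`Nat.Coprime.pow_left`, `hΔ.symm`), so `χ b = 1` (`orderOf_dvd_of_pow_eq_one` twice +
   `Nat.Coprime.eq_one_of_dvd`, or `pow_gcd_eq_one`).
Keep the statement, name, namespace exactly (you may add imports).
-/

set_option autoImplicit false

namespace Cfsg.Agent.Helper3.PIX

open Cfsg Cfsg.FusionSystem Cfsg.Agent.Helper25 Cfsg.Agent.Helper26

variable {Ω : Type*} [Group Ω] {S : Subgroup Ω}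

theorem extChi_of_normal [Finite S] (p : ℕ) [Fact p.Prime] (hS : IsPGroup p S)
    (F : FusionSystem S) {T : Subgroup Ω} (hTS : T ≤ S)
    (E : FusionSystem T) (hE : E.IsNormalIn F p) {Δ : Type*} [Group Δ] [Finite Δ]
    (hΔ : (Nat.card Δ).Coprime p) (χ : ↥(F.autGroup T) →* Δ)
    (hker : (E.autGroup T).subgroupOf (F.autGroup T) ≤ χ.ker) : ExtChi F E χ := by
  intro b Q hQ hres
  have hp : p.Prime := Fact.out
  have hinv : E.IsInvariantIn F := hE.1.2.2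
  have hEs : E.IsSaturated p := hE.1.1
  haveI : Finite T := finite_of_le_finite hTS
  have ha₀ : (b : MulAut T) ∈ F.autGroup T := b.2
  have hres' : OPE.resAut (b : MulAut T) Q hQ.1 ∈ E.Hom Q := hres
  have hpow : ∀ i : ℕ, OPE.resAut ((b : MulAut T) ^ i) Q hQ.1 ∈ E.Hom Q := by
    intro i
    obtain ⟨Ε, hΕ, hΕv⟩ :=
      OPE.pow_decomp F hTS E hinv ha₀ hQ.1 hres' (1 : MulAut Q) (fun g => rfl) i
    have e : Ε = OPE.resAut ((b : MulAut T) ^ i) Q hQ.1 := by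
      ext g
      have h1 := hΕv g
      rw [one_pow] at h1
      exact h1
    rw [← e]; exact hΕ
  have hn0 : orderOf (b : MulAut T) ≠ 0 := (orderOf_pos _).ne'
  obtain ⟨k, m, hm, hnm⟩ := Nat.exists_eq_pow_mul_and_not_dvd hn0 p hp.ne_one
  have hmp : m.Coprime p := ((Nat.Prime.coprime_iff_not_dvd hp).2 hm).symm
  have ham : ((b : MulAut T) ^ (p ^ k)) ^ m = 1 := by
    rw [← pow_mul, ← hnm]; exact pow_orderOf_eq_one _
  have ha : (b : MulAut T) ^ (p ^ k) ∈ F.autGroup T := pow_mem ha₀ _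
  have hstar : (b : MulAut T) ^ (p ^ k) ∈ E.autGroup T :=
    OPE.star p hS F hTS E hEs hinv ha hmp ham hQ (hpow (p ^ k))
  have hbk : b ^ (p ^ k) ∈ χ.ker := by
    apply hker
    rw [Subgroup.mem_subgroupOf]
    have e : ((b ^ (p ^ k) : ↥(F.autGroup T)) : MulAut T) = (b : MulAut T) ^ (p ^ k) := rfl
    rw [e]; exact hstar
  have h1 : χ b ^ (p ^ k) = 1 := by rw [← map_pow]; exact hbk
  have h2 : χ b ^ Nat.card Δ = 1 := pow_card_eq_one'
  have hcop : (p ^ k).Coprime (Nat.card Δ) := Nat.Coprime.pow_left k hΔ.symm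
  have hd1 := orderOf_dvd_of_pow_eq_one h1
  have hd2 := orderOf_dvd_of_pow_eq_one h2
  have h3 : orderOf (χ b) = 1 := Nat.eq_one_of_dvd_coprimes hcop hd1 hd2
  exact orderOf_eq_one_iff.mp h3

end Cfsg.Agent.Helper3.PIX
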